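import Cfsg.Agent.Mrg.Omega.NO1.TH.K.Root
import Cfsg.Agent.Mrg.Omega.NO1.TH.K.EOne
import Cfsg.Agent.Mrg.Omega.NO1.TH.Fact
import Cfsg.Agent.Mrg.Omega.NO1.AB.Beta
import Cfsg.Agent.Mrg.Omega.CloseA.Coord
import Cfsg.Agent.Mrg.Omega.NO1.TH.NoOvV
import Cfsg.Agent.Mrg.Omega.NO1.TH.KOneB

-- merged: Cfsg.Agent.Mrg.Omega.NO1.TH.K.LIn
section

section


/-!
# N1, natural type with `k` factors: the input `LIn` of (L1) (bb OMEGA 21480 / 20646), assembly

`LIn` from `LFac` on both sides, (a), (e) [`S_X ≤ K`, the support of `B₁` on `W'`] and (z).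
-/

set_option autoImplicit false
set_option linter.unusedSectionVars false
set_option linter.dupNamespace false

namespace Cfsg.Agent.Omega.NO1.TH

open Subgroup Cfsg.Agent.Omega.NO1.AB Cfsg.Agent.Omega.FFBr Cfsg.Agent.Lib.SL2Mat
open scoped Pointwise

universe u

variable {Y : Type u} [Group Y] {V : Type u} [AddCommGroup V] [DistribMulAction Y V]
variable [Finite Y] [Finite V] {U : Set (Subgroup Y)} {T : Sylow 2 Y} {M H R : Subgroup Y} {t : Y}

/-- **`LIn`, any type** -/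
theorem lIn_of (a : Amal U T M H R t) (a' : Amal U T M (MulAut.conj t • H) R t) (h : Amb V U T M)
    (we : WE V U H R) (we' : WE V U (MulAut.conj t • H) R) {ι : Type} {P : ι → Subgroup Y}
    {Ψ : ι → AddSubgroup V} {ι' : Type} {P' : ι' → Subgroup Y} {Ψ' : ι' → AddSubgroup V} {A : Subgroup Y}
    (fac : LFac V U H R P Ψ) (fac' : LFac V U (MulAut.conj t • H) R P' Ψ') (hA : A ∈ U) (hAH : A ≤ H)
    (hAM : ¬ A ≤ M) (hBQ : ¬ A ⊓ QQ H R ≤ QQ (MulAut.conj t • H) R)
    (hS : ∀ w, w ∉ Ee V A → ∀ s ∈ A, s • w + w ∈ WW V H R ⊔ WW V (MulAut.conj t • H) R ⊔ fx V A →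
      s ∈ QQ H R ∧ s ∈ QQ (MulAut.conj t • H) R)
    (faith : ∀ u ∈ A, (∀ w ∈ WW V H R, u • w + w ∈ D0 V U H R) → u ∈ QQ H R)
    (le₁ : ∀ x ∈ H, ∀ w ∈ WW V (MulAut.conj t • H) R, x • w ∈ Ee V A)
    (le₂ : ∀ x ∈ MulAut.conj t • H, ∀ w ∈ WW V H R, x • w ∈ Ee V A)
    (exact : ∃ Δ : Set ι', Δ.Nonempty ∧ (∀ b ∈ A, b ∈ QQ H R → b ∈ ⨆ p ∈ Δ, P' p) ∧
      ∀ p ∈ Δ, ∀ r ∈ P' p, ∃ b ∈ A, b ∈ QQ H R ∧ b⁻¹ * r ∈ QQ (MulAut.conj t • H) R)
    (mov : ∃ p, (∀ x ∈ brk (Ψ p) (P p), x ∈ fx V A → x ∈ D0 V U H R) ∧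
      (∃ u ∈ A, ∃ x ∈ brk (Ψ p) (P p), u • x ∉ brk (Ψ p) (P p)) ∧
      (∀ r ∈ P p, (∃ x ∈ Ψ p, r • x ≠ x) → ∀ z ∈ brk (Ψ p) (P p), ∃ x ∈ Ψ p, r • x + x + z ∈ D0 V U H R)) :
    LIn V U M H R t P Ψ P' Ψ' A := by
  have hAQ : ¬ A ≤ QQ H R := fun h1 => hAM (h1.trans (QQ_le.trans (a.RT.trans h.TM)))
  have hE : WW V (MulAut.conj t • H) R ≤ Ee V A := fun w hw => by
    have h1 := le₁ 1 H.one_mem w hw
    rwa [one_smul] at h1
  exact
    { fac := fac
      fac' := fac'
      mA := hA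
      AH := hAH
      AM := hAM
      AQ := hAQ
      WE := a.WW_le_Ee h we hA hAH
      pre := fun w hw s hs h1 => (hS w hw s hs (by
        rw [sup_right_comm]
        exact (le_sup_left : _ ≤ WW V H R ⊔ fx V A ⊔ WW V (MulAut.conj t • H) R) h1)).1
      faith := faith
      CB := fun v hv => by
        rw [← a.fx_eq h we hA hAH]
        exact fun b hb => hv b hb.1 hb.2
      CK := fun v hv => by
        obtain ⟨w, hw⟩ := (h.cls.mem A hA).ne
        rw [← Amal.e_CK a a' h we we' hA hAH hE hw hAQ hBQ (hS w hw)]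
        exact fun b hb => hv b hb.1.1 hb.1.2 hb.2
      le₁ := le₁
      le₂ := le₂
      exact := exact
      mov := mov.imp fun _ h1 => h1.1 }

end Cfsg.Agent.Omega.NO1.TH

namespace Cfsg.Agent.Omega.NO1.TH.K

open Subgroup Cfsg.Agent.Omega.NO1.AB Cfsg.Agent.Omega.FFBr Cfsg.Agent.Lib.SL2Mat
open scoped Pointwise

universe u

variable {Y : Type u} [Group Y] {V : Type u} [AddCommGroup V] [DistribMulAction Y V]

/-- the root group `R_i` of `R` (with `Q`) -/
def Rt (V : Type u) [AddCommGroup V] [DistribMulAction Y V] (H R : Subgroup Y) {F : Type} [Field F] {k : ℕ}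
    (co : V → Fin k → Fin 2 → F) (i : Fin k) (r : Y) : Prop :=
  r ∈ R ∧ ∃ b : Fin k → F, (∀ j, j ≠ i → b j = 0) ∧ Acts V H R co r fun j => up (b j)

variable {H R : Subgroup Y} {F : Type} [Field F] {k : ℕ} {co : V → Fin k → Fin 2 → F}

/-- an element of `R` acting as `(up (b i))_i`, `b = 0` outside `Δ`, is a product of elements of the root groups,
`i ∈ Δ` -/
theorem KNat.mem_biSup_of (K : KNat V H R F k co) (h2 : ∀ v : V, v + v = 0) (hRH : R ≤ H) (P : Fin k → Subgroup Y)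
    (hP : ∀ i r, Rt V H R co i r → r ∈ P i) {Δ : Set (Fin k)} (hΔ : Δ.Nonempty) {r : Y} (hr : r ∈ R)
    {b : Fin k → F} (hb0 : ∀ i, i ∉ Δ → b i = 0) (hb : Acts V H R co r fun i => up (b i)) : r ∈ ⨆ i ∈ Δ, P i := by
  obtain ⟨i₀, hi₀⟩ := hΔ
  have hle : ∀ i ∈ Δ, P i ≤ ⨆ i ∈ Δ, P i := fun i hi => le_iSup₂_of_le i hi le_rfl
  have key : ∀ s : Finset (Fin k), (∀ i ∈ s, i ∈ Δ) → ∀ b : Fin k → F, (∀ j, j ∉ s → b j = 0) → ∀ r ∈ R,
      Acts V H R co r (fun j => up (b j)) → r ∈ ⨆ i ∈ Δ, P i := by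
    classical
    intro s
    induction s using Finset.induction with
    | empty =>
      intro _ b hb r hr hr'
      exact hle i₀ hi₀ (hP i₀ r ⟨hr, b, fun j _ => hb j (Finset.notMem_empty j), hr'⟩)
    | insert i s hi ih =>
      intro hs b hb r hr hr'
      obtain ⟨u, hu, hu'⟩ := K.unip (Pi.single i (b i))
      have h3 : u ∈ ⨆ i ∈ Δ, P i := hle i (hs i (Finset.mem_insert_self i s))
        (hP i u ⟨hu, _, fun j hj => Pi.single_eq_of_ne hj _, hu'⟩)
      have h4 : u * r ∈ ⨆ i ∈ Δ, P i := by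
        apply ih (fun j hj => hs j (Finset.mem_insert_of_mem hj))
          (fun j => (Pi.single i (b i) : Fin k → F) j + b j) (fun j hj => ?_) _ (R.mul_mem hu hr)
        · exact hu'.up_mul (hRH hr) hr'
        · by_cases hji : j = i
          · subst hji
            rw [Pi.single_eq_same, K.F_two h2 j]
          · rw [Pi.single_eq_of_ne hji, zero_add]
            exact hb j (by
              rw [Finset.mem_insert]
              rintro (h6 | h6)
              · exact hji h6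
              · exact hj h6)
      have h5 := (⨆ i ∈ Δ, P i).mul_mem ((⨆ i ∈ Δ, P i).inv_mem h3) h4
      rwa [inv_mul_cancel_left] at h5
  classical
  refine key (Finset.univ.filter fun i => i ∈ Δ) (fun i hi => (Finset.mem_filter.1 hi).2) b (fun j hj => ?_) r hr hb
  apply hb0
  intro h3
  exact hj (Finset.mem_filter.2 ⟨Finset.mem_univ j, h3⟩)

variable [Finite Y] [Finite V] {U : Set (Subgroup Y)} {T : Sylow 2 Y} {M : Subgroup Y} {t : Y}

/-- field `exact` of `LIn` from the support of `B₁` on `W'` -/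
theorem exact_of (K : KNat V H R F k co) (h2 : ∀ v : V, v + v = 0) (hRH : R ≤ H) {P : Fin k → Subgroup Y}
    (hP : ∀ i r, r ∈ P i ↔ Rt V H R co i r) {B : Subgroup Y} (hBR : B ≤ R) {Δ : Set (Fin k)} (hΔ : Δ.Nonempty)
    (hS : Supp V H R co B Δ) : ∃ Δ : Set (Fin k), Δ.Nonempty ∧ (∀ b ∈ B, b ∈ ⨆ p ∈ Δ, P p) ∧
      ∀ p ∈ Δ, ∀ r ∈ P p, ∃ b ∈ B, b⁻¹ * r ∈ QQ H R := by
  refine ⟨Δ, hΔ, fun x hx => ?_, fun p hp r hr => ?_⟩
  · obtain ⟨b, hb0, hb⟩ := hS.act x hx
    exact K.mem_biSup_of h2 hRH P (fun i r => (hP i r).2) hΔ (hBR hx) hb0 hb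
  · obtain ⟨hrR, b, hb0, hb⟩ := (hP p r).1 hr
    obtain ⟨x, hx, hxb⟩ := hS.full b fun i hi => hb0 i (by
      rintro rfl
      exact hi hp)
    refine ⟨x, hx, ?_⟩
    have h3 := hxb.inv (hRH (hBR hx))
    have e : (fun i => (up (b i))⁻¹) = fun i => up (-b i) := by
      funext i
      exact up_inv _
    rw [e] at h3
    have h4 := h3.up_mul (hRH hrR) hb
    exact K.mem_Q_of_up_zero h2 hRH (R.mul_mem (R.inv_mem (hBR hx)) hrR) h4 fun i => neg_add_cancel _

/-- `B₁ ≰ Q'` from the support -/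
theorem not_le_of_supp (K : KNat V H R F k co) (amb : Amb V U T M) (a : Amal U T M H R t) {B : Subgroup Y}
    {Δ : Set (Fin k)} (hΔ : Δ.Nonempty) (hS : Supp V H R co B Δ) : ¬ B ≤ QQ H R := by
  intro h1
  obtain ⟨i, hi⟩ := hΔ
  classical
  obtain ⟨u, hu, h4⟩ := hS.full (Pi.single i 1) fun l hl => by
    rw [Pi.single_eq_of_ne]
    rintro rfl
    exact hl hi
  obtain ⟨v, hv, hvi, _⟩ := K.exists_at i ![0, 1]
  have h5 := h4.up_fst hv i
  rw [Q_fix amb a u (h1 hu) v hv, hvi, Pi.single_eq_same] at h5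
  simp at h5

end Cfsg.Agent.Omega.NO1.TH.K

end

section


/-!
# N1-ONE, (B) of #19584, natural type, any `k` (helper247 #20646): the action on one component

`N : KNat V H R F k co`.

* `CA` : the action of `g ∈ H` on the components: a permutation `σ` and semilinear maps `β i`; `KNat.exists_ca`,
  `KNat.exists_caR` (for `r ∈ R` the line `x 1 = 0` is invariant);
* `PP co j = [W_j^+, L_j]`; `pp_supp`, `KNat.pp_onto`, `KNat.pp_fix`, `KNat.le_pp`.
-/

set_option autoImplicit false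
set_option linter.unusedSectionVars false

namespace Cfsg.Agent.Omega.NO1.TH.K

open Subgroup Cfsg.Agent.Omega.NO1.AB Cfsg.Agent.Lib.SL2Mat
open Cfsg.Agent.Omega.NatPair (ap)
open scoped Pointwise

universe u

variable {Y : Type u} [Group Y] {V : Type u} [AddCommGroup V] [DistribMulAction Y V] {H R : Subgroup Y}
  {F : Type} [Field F] {k : ℕ} {co : V → Fin k → Fin 2 → F}

/-- the action of `g` on the components -/
structure CA (V : Type u) [AddCommGroup V] [DistribMulAction Y V] (H R : Subgroup Y) (co : V → Fin k → Fin 2 → F)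
    (g : Y) (σ : Equiv.Perm (Fin k)) (β : Fin k → (Fin 2 → F) → Fin 2 → F) (s : Fin k → F ≃+* F) : Prop where
  act : ∀ v ∈ WW V H R, ∀ i, co (g • v) (σ i) = β i (co v i)
  add : ∀ i x y, β i (x + y) = β i x + β i y
  smul : ∀ i (c : F) x, β i (c • x) = s i c • β i x
  inj : ∀ i x, β i x = 0 → x = 0

namespace KNat

variable (N : KNat V H R F k co)
include N

theorem exists_sgl [CharP F 2] (j : Fin k) (x : Fin 2 → F) : ∃ v ∈ WW V H R, co v = Pi.single j x := N.surj _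

theorem sub_ad [CharP F 2] {v w : V} (hv : v ∈ WW V H R) (hw : w ∈ WW V H R) (i : Fin k) :
    co (v + w) i = 0 ↔ co v i = co w i := by
  rw [N.add v hv w hw, Pi.add_apply]
  constructor
  · intro h
    have h1 : co w i + co w i = 0 := by
      funext j; exact CharTwo.add_self_eq_zero _
    exact add_right_cancel (h.trans h1.symm)
  · intro h
    rw [h]
    funext j; exact CharTwo.add_self_eq_zero _

theorem co_smul_zero {g : Y} (hg : g ∈ H) {v : V} (hv : v ∈ WW V H R) : co (g • v) = 0 ↔ co v = 0 := by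
  obtain ⟨σ, hσ⟩ := N.perm g hg
  constructor
  · intro h
    funext i
    exact (hσ v hv i).1 (congrFun h _)
  · intro h
    funext i
    obtain ⟨j, rfl⟩ := σ.surjective i
    exact (hσ v hv j).2 (congrFun h j)

theorem co_eq [CharP F 2] {v w : V} (hv : v ∈ WW V H R) (hw : w ∈ WW V H R) : co (v + w) = 0 ↔ co v = co w := by
  constructor
  · intro h
    funext i
    exact (N.sub_ad hv hw i).1 (congrFun h i)
  · intro h
    funext i
    exact (N.sub_ad hv hw i).2 (congrFun h i)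

/-- two elements of `H` with the same action on `W / D₀` agree on `W` -/
theorem eqOn [CharP F 2] {g h : Y} (hg : g ∈ H) (hh : h ∈ H) (he : ∀ w ∈ WW V H R, co (g • w) = co (h • w)) {w : V}
    (hw : w ∈ WW V H R) : g • w = h • w := by
  have h1 := N.trivH (h⁻¹ * g) (H.mul_mem (H.inv_mem hh) hg) (by
    intro w hw
    have h2 : h⁻¹ * g ∈ H := H.mul_mem (H.inv_mem hh) hg
    rw [← N.co_eq (smul_mem_WW h2 hw) hw, ← N.co_smul_zero hh (add_mem (smul_mem_WW h2 hw) hw), smul_add, ← mul_smul,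
      mul_inv_cancel_left, N.co_eq (smul_mem_WW hg hw) (smul_mem_WW hh hw)]
    exact he w hw) w hw
  rw [mul_smul, inv_smul_eq_iff] at h1
  exact h1

theorem exists_ca [Finite F] [CharP F 2] {g : Y} (hg : g ∈ H) :
    ∃ σ β s, CA V H R co g σ β s := by
  obtain ⟨σ, hσ⟩ := N.perm g hg
  have hgm : ∀ {v : V}, v ∈ WW V H R → g • v ∈ WW V H R := fun hv => smul_mem_WW hg hv
  have hgm' : ∀ {v : V}, v ∈ WW V H R → g⁻¹ • v ∈ WW V H R := fun hv => smul_mem_WW (H.inv_mem hg) hv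
  choose u huW hu using fun (i : Fin k) (x : Fin 2 → F) => N.exists_sgl i x
  -- the component map
  let β : Fin k → (Fin 2 → F) → Fin 2 → F := fun i x => co (g • u i x) (σ i)
  have hact : ∀ v ∈ WW V H R, ∀ i, co (g • v) (σ i) = β i (co v i) := by
    intro v hv i
    rw [← N.sub_ad (hgm hv) (hgm (huW i _)), ← smul_add, hσ _ (add_mem hv (huW _ _)), N.sub_ad hv (huW _ _), hu,
      Pi.single_eq_same]
  have hadd : ∀ i x y, β i (x + y) = β i x + β i y := by
    intro i x y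
    have h1 := hact _ (add_mem (huW i x) (huW i y)) i
    rw [smul_add, N.add _ (hgm (huW _ _)) _ (hgm (huW _ _)), Pi.add_apply, N.add _ (huW _ _) _ (huW _ _),
      Pi.add_apply, hu, hu, Pi.single_eq_same, Pi.single_eq_same] at h1
    exact h1.symm
  have hinj : ∀ i x, β i x = 0 → x = 0 := by
    intro i x h
    have h1 := (hσ _ (huW i x) i).1 h
    rwa [hu, Pi.single_eq_same] at h1
  -- the inverse
  let β' : Fin k → (Fin 2 → F) → Fin 2 → F := fun i x => co (g⁻¹ • u (σ i) x) i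
  have hact' : ∀ v ∈ WW V H R, ∀ i, co (g⁻¹ • v) i = β' i (co v (σ i)) := by
    intro v hv i
    rw [← N.sub_ad (hgm' hv) (hgm' (huW (σ i) _)), ← smul_add,
      ← hσ _ (hgm' (add_mem hv (huW _ _))), smul_inv_smul, N.sub_ad hv (huW _ _), hu, Pi.single_eq_same]
  have hββ : ∀ i x, β' i (β i x) = x := by
    intro i x
    have h1 := hact' _ (hgm (huW i x)) i
    rw [inv_smul_smul, hu, Pi.single_eq_same] at h1
    exact h1.symm
  have hββ' : ∀ i x, β i (β' i x) = x := by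
    intro i x
    have h1 := hact _ (hgm' (huW (σ i) x)) i
    rw [smul_inv_smul, hu, Pi.single_eq_same] at h1
    exact h1.symm
  have hs : ∀ i, ∃ s : F ≃+* F, ∀ (c : F) x, β i (c • x) = s c • β i x := by
    intro i
    obtain ⟨τ, hτ⟩ := NatPair.exists_semi (β i) (β' i) (hadd i) (hββ i) (hββ' i) (by
      intro A
      obtain ⟨h, hh, hA⟩ := N.lift (Pi.mulSingle (σ i) A)
      obtain ⟨B, hB⟩ := N.norm g⁻¹ (H.inv_mem hg) h hh _ hA.1
      refine ⟨B i, fun x => ?_⟩
      have h1 := hB _ (huW i x) i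
      rw [inv_inv, mul_smul, mul_smul, hact' _ (smul_mem_WW hh (hgm (huW _ _))), hA.1 _ (hgm (huW _ _)),
        hact _ (huW _ _), hu, Pi.single_eq_same, Pi.mulSingle_eq_same] at h1
      exact h1)
    exact NatPair.exists_ringEquiv (β i) (β' i) (hadd i) (hββ i) τ hτ
  choose s hs using hs
  exact ⟨σ, β, s, hact, hadd, hs, hinj⟩

theorem exists_caR [Finite F] [CharP F 2] (hRH : R ≤ H) {r : Y} (hr : r ∈ R) :
    ∃ σ β s, CA V H R co r σ β s ∧ ∀ i x, β i x 1 = 0 ↔ x 1 = 0 := by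
  obtain ⟨σ, β, s, hc⟩ := N.exists_ca (hRH hr)
  obtain ⟨τ, hτ⟩ := N.line r hr
  refine ⟨σ, β, s, hc, fun i x => ?_⟩
  have hστ : τ i = σ i := by
    obtain ⟨v, hv, hvx⟩ := N.exists_sgl i (![0, 1] : Fin 2 → F)
    by_contra hne
    have h1 := (hτ v hv i).1 (by
      obtain ⟨j, hj⟩ := σ.surjective (τ i)
      have hij : j ≠ i := fun e => hne (by rw [← hj, e])
      rw [← hj, hc.act v hv j, hvx, Pi.single_eq_of_ne hij]
      have h2 : β j 0 = 0 := by
        have h3 := hc.add j 0 0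
        rw [add_zero] at h3
        exact left_eq_add.1 h3
      rw [h2]; rfl)
    rw [hvx, Pi.single_eq_same] at h1
    simp at h1
  obtain ⟨v, hv, hvx⟩ := N.exists_sgl i x
  have h1 := hτ v hv i
  rw [hστ, hc.act v hv i, hvx, Pi.single_eq_same] at h1
  exact h1

end KNat

/-! ### `PP j` -/

/-- `[W, L_j]` -/
def PP (V : Type u) [AddCommGroup V] [DistribMulAction Y V] (H R : Subgroup Y) (co : V → Fin k → Fin 2 → F)
    (j : Fin k) : AddSubgroup V :=
  AddSubgroup.closure {v | ∃ g ∈ H, ∃ A : Fin k → Matrix.SpecialLinearGroup (Fin 2) F, Acts V H R co g A ∧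
    (∀ i, i ≠ j → A i = 1) ∧ ∃ w ∈ WW V H R, v = g • w + w}

theorem PP_le_WW (j : Fin k) : PP V H R co j ≤ WW V H R := by
  refine (AddSubgroup.closure_le _).2 ?_
  rintro _ ⟨g, hg, A, -, -, w, hw, rfl⟩
  exact add_mem (smul_mem_WW hg hw) hw

namespace KNat

variable (N : KNat V H R F k co)
include N

theorem pp_supp [CharP F 2] {j : Fin k} {v : V} (hv : v ∈ PP V H R co j) {i : Fin k} (hij : i ≠ j) : co v i = 0 := by
  have key : v ∈ WW V H R ∧ co v i = 0 := by
    refine AddSubgroup.closure_induction ?_ ?_ ?_ ?_ hv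
    · rintro _ ⟨g, hg, A, hA, hAi, w, hw, rfl⟩
      refine ⟨add_mem (smul_mem_WW hg hw) hw, ?_⟩
      rw [N.sub_ad (smul_mem_WW hg hw) hw, hA.1 w hw, hAi i hij, NatPair.ap_one]
    · exact ⟨zero_mem _, by rw [N.zero]; rfl⟩
    · rintro a b - - ⟨ha, ha'⟩ ⟨hb, hb'⟩
      exact ⟨add_mem ha hb, by rw [N.add a ha b hb, Pi.add_apply, ha', hb', add_zero]⟩
    · rintro a - ⟨ha, ha'⟩
      refine ⟨neg_mem ha, ?_⟩
      have h1 := N.add a ha (-a) (neg_mem ha)
      rw [add_neg_cancel, N.zero] at h1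
      have h2 := congrFun h1 i
      rw [Pi.add_apply, ha', zero_add] at h2
      exact h2.symm
  exact key.2

end KNat

/-- a fixed point free element of `SL₂(F)` -/
def om [CharP F 2] : Matrix.SpecialLinearGroup (Fin 2) F := mk 0 1 1 1 (by
  have h : (1 : F) + 1 = 0 := CharTwo.add_self_eq_zero 1
  linear_combination (-1 : F) * h)

theorem exists_om [CharP F 2] (x : Fin 2 → F) : ∃ z : Fin 2 → F, ap om z + z = x := by
  refine ⟨![x 1, x 0 + x 1], ?_⟩
  have h2 : ∀ a : F, a + a = 0 := fun a => CharTwo.add_self_eq_zero a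
  apply NatPair.ext2
  · rw [Pi.add_apply, NatPair.ap_zero', om]
    simp only [mk_00, mk_01, Matrix.cons_val_zero, Matrix.cons_val_one, zero_mul, one_mul, zero_add]
    linear_combination h2 (x 1)
  · rw [Pi.add_apply, NatPair.ap_one', om]
    simp only [mk_10, mk_11, Matrix.cons_val_zero, Matrix.cons_val_one, one_mul]
    linear_combination h2 (x 0) + h2 (x 1)

theorem ap_zero (A : Matrix.SpecialLinearGroup (Fin 2) F) : ap A 0 = 0 := by
  apply NatPair.ext2
  · rw [NatPair.ap_zero']; simp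
  · rw [NatPair.ap_one']; simp

namespace KNat

variable (N : KNat V H R F k co)
include N

/-- `PP j` maps onto the component `j` -/
theorem pp_onto [CharP F 2] (j : Fin k) (x : Fin 2 → F) : ∃ v ∈ PP V H R co j, co v = Pi.single j x := by
  obtain ⟨z, hz⟩ := exists_om x
  obtain ⟨w, hw, hwz⟩ := N.surj (Pi.single j z)
  obtain ⟨g, hg, hA⟩ := N.lift (Pi.mulSingle j om)
  refine ⟨g • w + w, AddSubgroup.subset_closure ⟨g, hg, _, hA, fun i hi => Pi.mulSingle_eq_of_ne hi _, w, hw, rfl⟩, ?_⟩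
  rw [N.add _ (smul_mem_WW hg hw) w hw]
  funext i
  rw [Pi.add_apply, hA.1 w hw, hwz]
  by_cases hi : i = j
  · subst hi
    rw [Pi.mulSingle_eq_same, Pi.single_eq_same, Pi.single_eq_same, hz]
  · rw [Pi.mulSingle_eq_of_ne hi, Pi.single_eq_of_ne hi, Pi.single_eq_of_ne hi, NatPair.ap_one, add_zero]

/-- `L_j` centralises the vectors without `j`-component -/
theorem comm_triv [CharP F 2] (h2 : ∀ v : V, v + v = 0) {j : Fin k} {g : Y} (hg : g ∈ H)
    {A : Fin k → Matrix.SpecialLinearGroup (Fin 2) F} (hA : Acts V H R co g A) (hAi : ∀ i, i ≠ j → A i = 1) {x : V}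
    (hx : x ∈ WW V H R) (hxj : co x j = 0) : g • x = x := by
  classical
  choose z hz using fun i => exists_om (co x i)
  obtain ⟨y, hy, hyz⟩ := N.surj (Function.update z j 0)
  obtain ⟨t, ht, hB⟩ := N.lift (Function.update (fun _ => om) j 1)
  set B : Fin k → Matrix.SpecialLinearGroup (Fin 2) F := Function.update (fun _ => om) j 1 with hBdef
  -- `x = t y + y + d`
  have hty := smul_mem_WW ht hy
  have hd : co (x + (t • y + y)) = 0 := by
    funext i
    rw [Pi.zero_apply, N.sub_ad hx (add_mem hty hy), N.add _ hty _ hy, Pi.add_apply, hB.1 y hy, hyz]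
    by_cases hi : i = j
    · subst hi
      rw [Function.update_self, ap_zero, add_zero, hxj]
    · rw [Function.update_of_ne hi, hBdef, Function.update_of_ne hi, hz]
  have hdW : x + (t • y + y) ∈ WW V H R := add_mem hx (add_mem hty hy)
  -- `g y = y + d'`
  have hd' : co (g • y + y) = 0 := by
    funext i
    rw [Pi.zero_apply, N.sub_ad (smul_mem_WW hg hy) hy, hA.1 y hy]
    by_cases hi : i = j
    · subst hi
      rw [hyz, Function.update_self, ap_zero]
    · rw [hAi i hi, NatPair.ap_one]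
  have hd'W : g • y + y ∈ WW V H R := add_mem (smul_mem_WW hg hy) hy
  have hgy : g • y = y + (g • y + y) := by rw [add_comm, add_assoc, h2, add_zero]
  -- `g t y = t g y`
  have hgt : ∀ w ∈ WW V H R, g • t • w = t • g • w := by
    intro w hw
    rw [← mul_smul, ← mul_smul]
    refine N.eqOn (H.mul_mem hg ht) (H.mul_mem ht hg) ?_ hw
    intro w hw
    rw [mul_smul, mul_smul]
    funext i
    rw [hA.1 _ (smul_mem_WW ht hw), hB.1 w hw, hB.1 _ (smul_mem_WW hg hw), hA.1 w hw]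
    by_cases hi : i = j
    · subst hi
      rw [hBdef, Function.update_self, NatPair.ap_one, NatPair.ap_one]
    · rw [hAi i hi, NatPair.ap_one, NatPair.ap_one]
  have hx' : x = (x + (t • y + y)) + (t • y + y) := by rw [add_assoc, h2, add_zero]
  rw [hx', smul_add, hA.2 _ hdW hd, smul_add, hgt y hy]
  nth_rewrite 1 [hgy]
  rw [smul_add, hB.2 _ hd'W hd']
  have h5 : t • y + (g • y + y) + g • y = t • y + y + (g • y + g • y) := by abel
  rw [h5, h2, add_zero]

/-- an element of `H` which is trivial on the component `j` centralises `PP j` -/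
theorem pp_fix [CharP F 2] (h2 : ∀ v : V, v + v = 0) {j : Fin k} {b : Y} (hb : b ∈ H)
    (hbj : ∀ w ∈ WW V H R, co (b • w) j = co w j) {v : V} (hv : v ∈ PP V H R co j) : b • v = v := by
  refine AddSubgroup.closure_induction ?_ ?_ ?_ ?_ hv
  · rintro _ ⟨g, hg, A, hA, hAi, w, hw, rfl⟩
    -- `b g = g b` on `W`
    have hbg : ∀ w ∈ WW V H R, b • g • w = g • b • w := by
      intro w hw
      rw [← mul_smul, ← mul_smul]
      refine N.eqOn (H.mul_mem hb hg) (H.mul_mem hg hb) ?_ hw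
      intro w hw
      rw [mul_smul, mul_smul]
      obtain ⟨σ, hσ⟩ := N.perm b hb
      have hσj : σ j = j := by
        obtain ⟨v, hv, hvx⟩ := N.exists_sgl j (![1, 0] : Fin 2 → F)
        by_contra hne
        obtain ⟨i, hi⟩ := σ.surjective j
        have hij : i ≠ j := fun e => hne (by rw [e] at hi; exact hi)
        have h3 := (hσ v hv i).2 (by rw [hvx, Pi.single_eq_of_ne hij])
        rw [hi, hbj v hv, hvx, Pi.single_eq_same] at h3
        have h4 := congrFun h3 0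
        simp at h4
      have hgw := smul_mem_WW hg hw
      have hbw := smul_mem_WW hb hw
      funext i
      by_cases hi : i = j
      · subst hi
        rw [hbj _ hgw, hA.1 w hw, hA.1 _ hbw, hbj w hw]
      · rw [hA.1 _ hbw, hAi i hi, NatPair.ap_one, ← N.sub_ad (smul_mem_WW hb hgw) hbw, ← smul_add]
        obtain ⟨i', rfl⟩ := σ.surjective i
        have hi' : i' ≠ j := fun e => hi (by rw [e, hσj])
        rw [hσ _ (add_mem hgw hw), N.sub_ad hgw hw, hA.1 w hw, hAi i' hi', NatPair.ap_one]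
    rw [smul_add, hbg w hw]
    -- `b w = w + x`, `x` without `j`-component
    have hbw := smul_mem_WW hb hw
    have h3 := N.comm_triv h2 hg hA hAi (x := b • w + w) (add_mem hbw hw) ((N.sub_ad hbw hw j).2 (hbj w hw))
    rw [smul_add] at h3
    have h4 : g • b • w + b • w + (g • w + w) = (g • b • w + g • w) + (b • w + w) := by abel
    rw [h3, h2] at h4
    have h5 : g • b • w + b • w = g • b • w + b • w + ((g • w + w) + (g • w + w)) := by rw [h2, add_zero]
    rw [h5, ← add_assoc, h4, zero_add]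
  · exact smul_zero b
  · intro a c _ _ ha hc
    rw [smul_add, ha, hc]
  · intro a _ ha
    rw [smul_neg, ha]

end KNat

end Cfsg.Agent.Omega.NO1.TH.K

end

section


/-!
# N1-ONE, (B) of #19584, natural type (helper247 #20646): elementary abelian subgroups on one component

`SLin R co j a s` : `a` fixes the component `j` and is `s`-semilinear on it.

* `KNat.card_le` : an elementary abelian `A ≤ R` which fixes `j` and is faithful on the component `j` has `|A| ≤ |F|`;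
* `KNat.card_le'` : the same without "fixes `j`", if `[W, A, S] = 0` for some `1 ≠ S ≤ A`;
* `KNat.bound` : (z).
-/

set_option autoImplicit false
set_option linter.unusedSectionVars false

namespace Cfsg.Agent.Omega.NO1.TH.K

open Subgroup Cfsg.Agent.Omega.NO1.AB Cfsg.Agent.Lib.SL2Mat
open Cfsg.Agent.Omega.NatPair (ap)
open scoped Pointwise

universe u

variable {Y : Type u} [Group Y] {V : Type u} [AddCommGroup V] [DistribMulAction Y V] {H R : Subgroup Y}
  {F : Type} [Field F] {k : ℕ} {co : V → Fin k → Fin 2 → F}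

/-- `a` is `s`-semilinear on the component `j` -/
def SLin (V : Type u) [AddCommGroup V] [DistribMulAction Y V] (H R : Subgroup Y) (co : V → Fin k → Fin 2 → F)
    (j : Fin k) (a : Y) (s : F ≃+* F) : Prop :=
  ∀ w ∈ WW V H R, ∀ w' ∈ WW V H R, ∀ c : F, co w' j = c • co w j → co (a • w') j = s c • co (a • w) j

theorem fix_card [Finite F] (s : F ≃+* F) (hs : ∃ x, s x ≠ x) : 2 * Nat.card {x : F // s x = x} ≤ Nat.card F := by
  obtain ⟨z, hz⟩ := hs
  have h1 : Function.Injective (fun p : {x : F // s x = x} × {x : F // s x = x} => p.1.1 + p.2.1 * z) := by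
    rintro ⟨⟨a, ha⟩, ⟨b, hb⟩⟩ ⟨⟨a', ha'⟩, ⟨b', hb'⟩⟩ h
    change a + b * z = a' + b' * z at h
    by_cases hbb : b = b'
    · subst hbb
      have : a = a' := add_right_cancel h
      subst this
      rfl
    · exfalso
      apply hz
      have h3 : (b - b') * z = a' - a := by linear_combination h
      have h4 : b - b' ≠ 0 := sub_ne_zero.2 hbb
      have h5 : z = (a' - a) * (b - b')⁻¹ := by
        field_simp
        linear_combination h3
      rw [h5, map_mul, map_inv₀, map_sub, map_sub, ha, ha', hb, hb']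
  have h3 := Nat.card_le_card_of_injective _ h1
  rw [Nat.card_prod] at h3
  have h4 : 2 ≤ Nat.card {x : F // s x = x} := by
    have h5 : Function.Injective (fun b : Bool => (if b then ⟨1, map_one s⟩ else ⟨0, map_zero s⟩ : {x : F // s x = x})) := by
      intro b b' hb
      cases b <;> cases b' <;> simp at hb ⊢
    have h6 := Nat.card_le_card_of_injective _ h5
    rwa [Nat.card_eq_fintype_card (α := Bool), Fintype.card_bool] at h6
  exact (Nat.mul_le_mul_right _ h4).trans h3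

namespace KNat

variable (N : KNat V H R F k co)
include N

theorem exists_SLin [Finite F] [CharP F 2] (hRH : R ≤ H) {j : Fin k} {a : Y} (ha : a ∈ R)
    (hf : ∀ w ∈ WW V H R, co w j = 0 → co (a • w) j = 0) : ∃ s, SLin V H R co j a s := by
  obtain ⟨σ, β, s, hc⟩ := N.exists_ca (hRH ha)
  have hσ : σ j = j := by
    by_contra hne
    obtain ⟨i, hi⟩ := σ.surjective j
    have hij : i ≠ j := fun e => hne (by rw [e] at hi; exact hi)
    obtain ⟨v, hv, hvx⟩ := N.exists_sgl i (![1, 0] : Fin 2 → F)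
    have h1 := hf v hv (by rw [hvx, Pi.single_eq_of_ne hij.symm])
    rw [← hi, hc.act v hv, hvx, Pi.single_eq_same] at h1
    have h3 := congrFun (hc.inj i _ h1) 0
    simp at h3
  refine ⟨s j, fun w hw w' hw' c h => ?_⟩
  have h1 := hc.act w hw j
  have h3 := hc.act w' hw' j
  rw [hσ] at h1 h3
  rw [h1, h3, h, hc.smul]

omit N in
theorem SLin.mul {j : Fin k} {a b : Y} {s t : F ≃+* F} (hRH : R ≤ H) (hb' : b ∈ R) (ha : SLin V H R co j a s)
    (hb : SLin V H R co j b t) : SLin V H R co j (a * b) (t.trans s) := by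
  intro w hw w' hw' c h
  rw [mul_smul, mul_smul]
  exact ha _ (smul_mem_WW (hRH hb') hw) _ (smul_mem_WW (hRH hb') hw') _ (hb w hw w' hw' c h)

omit N in
theorem SLin.fix {j : Fin k} {a : Y} {s : F ≃+* F} (ha : SLin V H R co j a s) {w : V} (hw : w ∈ WW V H R)
    (h : co w j = 0) : co (a • w) j = 0 := by
  have h1 := ha w hw w hw 0 (by rw [h, smul_zero])
  rwa [map_zero, zero_smul] at h1

theorem exists_ne [CharP F 2] (hRH : R ≤ H) {j : Fin k} {a : Y} (ha : a ∈ R) : ∃ w ∈ WW V H R, co (a • w) j ≠ 0 := by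
  obtain ⟨v, hv, hvx⟩ := N.exists_sgl j (![1, 0] : Fin 2 → F)
  refine ⟨a⁻¹ • v, smul_mem_WW (H.inv_mem (hRH ha)) hv, fun h => ?_⟩
  rw [smul_inv_smul, hvx, Pi.single_eq_same] at h
  have h4 := congrFun h 0
  simp at h4

theorem SLin_uniq [CharP F 2] (hRH : R ≤ H) {j : Fin k} {a : Y} (ha' : a ∈ R) {s t : F ≃+* F}
    (ha : SLin V H R co j a s) (hb : SLin V H R co j a t) : s = t := by
  obtain ⟨w, hw, hne⟩ := N.exists_ne hRH (j := j) ha'
  ext c
  obtain ⟨w', hw', hww⟩ := N.exists_sgl j (c • co w j)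
  have e : co w' j = c • co w j := by rw [hww, Pi.single_eq_same]
  have h1 := ha w hw w' hw' c e
  rw [hb w hw w' hw' c e] at h1
  exact (smul_left_injective F hne h1).symm

omit N in
theorem SLin_one {j : Fin k} : SLin V H R co j (1 : Y) (RingEquiv.refl F) := by
  intro w hw w' hw' c h
  rw [one_smul, one_smul, h]
  rfl

theorem SLin_sq [CharP F 2] (hRH : R ≤ H) {j : Fin k} {a : Y} (ha' : a ∈ R) (haa : a * a = 1) {s : F ≃+* F}
    (ha : SLin V H R co j a s) (x : F) : s (s x) = x := by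
  have h1 := SLin.mul hRH ha' ha ha
  rw [haa] at h1
  have h3 := N.SLin_uniq hRH R.one_mem h1 SLin_one
  exact RingEquiv.congr_fun h3 x

/-- linear involutions -/
theorem lin_of [Finite F] [CharP F 2] (hRH : R ≤ H) {j : Fin k} {a : Y} (ha' : a ∈ R) (haa : a * a = 1)
    (ha : SLin V H R co j a (RingEquiv.refl F)) :
    ∃ γ : F, ∀ w ∈ WW V H R, co (a • w) j = ![co w j 0 + γ * co w j 1, co w j 1] := by
  obtain ⟨σ, β, s, hc, hl⟩ := N.exists_caR hRH ha'
  have hσ : σ j = j := by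
    by_contra hne
    obtain ⟨i, hi⟩ := σ.surjective j
    have hij : i ≠ j := fun e => hne (by rw [e] at hi; exact hi)
    obtain ⟨v, hv, hvx⟩ := N.exists_sgl i (![1, 0] : Fin 2 → F)
    have h1 := SLin.fix ha hv (by rw [hvx, Pi.single_eq_of_ne hij.symm])
    rw [← hi, hc.act v hv, hvx, Pi.single_eq_same] at h1
    have h3 := congrFun (hc.inj i _ h1) 0
    simp at h3
  have hact : ∀ w ∈ WW V H R, co (a • w) j = β j (co w j) := by
    intro w hw
    have h1 := hc.act w hw j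
    rwa [hσ] at h1
  have hsm : ∀ (c : F) x, β j (c • x) = c • β j x := by
    intro c x
    obtain ⟨w, hw, hwx⟩ := N.exists_sgl j x
    obtain ⟨w', hw', hwx'⟩ := N.exists_sgl j (c • x)
    have h1 := ha w hw w' hw' c (by rw [hwx, hwx', Pi.single_eq_same, Pi.single_eq_same])
    rw [hact w hw, hact w' hw', hwx, hwx', Pi.single_eq_same, Pi.single_eq_same] at h1
    exact h1
  have hbb : ∀ x, β j (β j x) = x := by
    intro x
    obtain ⟨w, hw, hwx⟩ := N.exists_sgl j x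
    have h1 := hact _ (smul_mem_WW (hRH ha') hw)
    rw [← mul_smul, haa, one_smul, hact w hw, hwx, Pi.single_eq_same] at h1
    exact h1.symm
  have h10 : β j ![1, 0] 1 = 0 := (hl j _).2 (by simp)
  set α := β j ![1, 0] 0 with hα
  have e1 : β j ![1, 0] = α • ![1, 0] := by
    apply NatPair.ext2
    · simp [hα]
    · rw [h10]; simp
  have h1 := hbb ![1, 0]
  rw [e1, hsm, e1, smul_smul] at h1
  have h3 : α * α = 1 := by
    have := congrFun h1 0
    simpa using this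
  have sq1 : ∀ x : F, x * x = 1 → x = 1 := by
    intro x hx
    have h5 : (x + 1) * (x + 1) = 0 := by
      have h6 : (1 : F) + 1 = 0 := CharTwo.add_self_eq_zero 1
      linear_combination hx + (1 + x) * h6
    have h7 : x + 1 = 0 := by simpa using h5
    have h8 : (1 : F) + 1 = 0 := CharTwo.add_self_eq_zero 1
    exact add_right_cancel (h7.trans h8.symm)
  have hα1 := sq1 α h3
  rw [hα1, one_smul] at e1
  have e2 : β j ![0, 1] = (β j ![0, 1] 0) • ![1, 0] + (β j ![0, 1] 1) • ![0, 1] := by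
    apply NatPair.ext2
    · simp
    · simp
  have h4 := hbb ![0, 1]
  rw [e2, hc.add, hsm, hsm, e1] at h4
  have h5 : β j ![0, 1] 1 * β j ![0, 1] 1 = 1 := by
    have := congrFun h4 1
    simpa using this
  have hδ := sq1 _ h5
  refine ⟨β j ![0, 1] 0, fun w hw => ?_⟩
  rw [hact w hw]
  have e3 : co w j = (co w j 0) • ![1, 0] + (co w j 1) • ![0, 1] := by
    apply NatPair.ext2
    · simp
    · simp
  rw [e3, hc.add, hsm, hsm, e1]
  apply NatPair.ext2
  · simp only [Pi.add_apply, Pi.smul_apply, smul_eq_mul, Matrix.cons_val_zero, Matrix.cons_val_one, mul_one, mul_zero,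
      add_zero, zero_add]
    ring
  · simp only [Pi.add_apply, Pi.smul_apply, smul_eq_mul, Matrix.cons_val_zero, Matrix.cons_val_one, mul_one, mul_zero,
      add_zero, zero_add]
    rw [hδ, mul_one]

end KNat

end Cfsg.Agent.Omega.NO1.TH.K

end

section


/-!
# N1-ONE, (B) of #19584, natural type (helper247 #20646): `|A| ≤ |F|`

* `KNat.card_le` : an elementary abelian `A ≤ R` which fixes `j` and is faithful on the component `j` has `|A| ≤ |F|`;
* `KNat.card_le'` : the same without "fixes `j`", if `[v₀, A, S] = 0` for some `S ⊆ A`, `|F| ≤ |S|`, and some `v₀`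
  supported on `j`, not in the line.
-/

set_option autoImplicit false
set_option linter.unusedSectionVars false

namespace Cfsg.Agent.Omega.NO1.TH.K

open Subgroup Cfsg.Agent.Omega.NO1.AB Cfsg.Agent.Lib.SL2Mat
open Cfsg.Agent.Omega.NatPair (ap)
open scoped Pointwise

universe u

variable {Y : Type u} [Group Y] {V : Type u} [AddCommGroup V] [DistribMulAction Y V] {H R : Subgroup Y}
  {F : Type} [Field F] {k : ℕ} {co : V → Fin k → Fin 2 → F}

theorem CA.zero {g : Y} {σ : Equiv.Perm (Fin k)} {β : Fin k → (Fin 2 → F) → Fin 2 → F} {s : Fin k → F ≃+* F}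
    (hc : CA V H R co g σ β s) (i : Fin k) : β i 0 = 0 := by
  have h3 := hc.add i 0 0
  rw [add_zero] at h3
  exact left_eq_add.1 h3

namespace KNat

variable (N : KNat V H R F k co)
include N

/-- the matrix of a semilinear element -/
theorem semi_form [Finite F] [CharP F 2] (hRH : R ≤ H) {j : Fin k} {a : Y} (ha' : a ∈ R) {s : F ≃+* F}
    (ha : SLin V H R co j a s) : ∃ α κ δ : F, α ≠ 0 ∧ δ ≠ 0 ∧ ∀ w ∈ WW V H R,
      co (a • w) j = ![α * s (co w j 0) + κ * s (co w j 1), δ * s (co w j 1)] := by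
  obtain ⟨σ, β, s', hc, hl⟩ := N.exists_caR hRH ha'
  have hσ : σ j = j := by
    by_contra hne
    obtain ⟨i, hi⟩ := σ.surjective j
    have hij : i ≠ j := fun e => hne (by rw [e] at hi; exact hi)
    obtain ⟨v, hv, hvx⟩ := N.exists_sgl i (![1, 0] : Fin 2 → F)
    have h1 := SLin.fix ha hv (by rw [hvx, Pi.single_eq_of_ne hij.symm])
    rw [← hi, hc.act v hv, hvx, Pi.single_eq_same] at h1
    have h3 := congrFun (hc.inj i _ h1) 0
    simp at h3
  have hact : ∀ w ∈ WW V H R, co (a • w) j = β j (co w j) := by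
    intro w hw
    have h1 := hc.act w hw j
    rwa [hσ] at h1
  have hsm : ∀ (c : F) x, β j (c • x) = s c • β j x := by
    intro c x
    obtain ⟨w, hw, hwx⟩ := N.exists_sgl j x
    obtain ⟨w', hw', hwx'⟩ := N.exists_sgl j (c • x)
    have h1 := ha w hw w' hw' c (by rw [hwx, hwx', Pi.single_eq_same, Pi.single_eq_same])
    rw [hact w hw, hact w' hw', hwx, hwx', Pi.single_eq_same, Pi.single_eq_same] at h1
    exact h1
  have h10 : β j ![1, 0] 1 = 0 := (hl j _).2 (by simp)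
  have e1 : β j ![1, 0] = (β j ![1, 0] 0) • ![1, 0] := by
    apply NatPair.ext2
    · simp
    · rw [h10]; simp
  have hα : β j ![1, 0] 0 ≠ 0 := by
    intro h
    rw [h, zero_smul] at e1
    have h3 := congrFun (hc.inj j _ e1) 0
    simp at h3
  have hδ : β j ![0, 1] 1 ≠ 0 := by
    intro h
    have h1 := (hl j ![0, 1]).1 h
    simp at h1
  refine ⟨β j ![1, 0] 0, β j ![0, 1] 0, β j ![0, 1] 1, hα, hδ, fun w hw => ?_⟩
  rw [hact w hw]
  have e3 : co w j = (co w j 0) • ![1, 0] + (co w j 1) • ![0, 1] := by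
    apply NatPair.ext2
    · simp
    · simp
  conv_lhs => rw [e3, hc.add, hsm, hsm]
  apply NatPair.ext2
  · simp only [Pi.add_apply, Pi.smul_apply, smul_eq_mul, Matrix.cons_val_zero]
    ring
  · simp only [Pi.add_apply, Pi.smul_apply, smul_eq_mul, Matrix.cons_val_one, Matrix.cons_val_zero, h10, mul_zero,
      zero_add]
    ring

theorem exists_vec [CharP F 2] (j : Fin k) (x y : F) : ∃ w ∈ WW V H R, co w j 0 = x ∧ co w j 1 = y := by
  obtain ⟨v, hv, hvx⟩ := N.exists_sgl j (![x, y] : Fin 2 → F)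
  exact ⟨v, hv, by rw [hvx, Pi.single_eq_same]; simp, by rw [hvx, Pi.single_eq_same]; simp⟩

omit N in
/-- products of two non-linear involutions are linear -/
theorem lin_mul [Finite F] [CharP F 2] (N : KNat V H R F k co) (hRH : R ≤ H) {j : Fin k} {a b : Y} (ha' : a ∈ R)
    (hb' : b ∈ R) (haa : a * a = 1) (hbb : b * b = 1) {s t : F ≃+* F} (ha : SLin V H R co j a s)
    (hb : SLin V H R co j b t) (hs : s ≠ RingEquiv.refl F) (ht : t ≠ RingEquiv.refl F) :
    SLin V H R co j (a * b) (RingEquiv.refl F) := by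
  have h1 := SLin.mul hRH hb' ha hb
  have h3 : (s : F →+* F) = (t : F →+* F) := by
    refine CloseA.invol_unique (fun x => N.SLin_sq hRH ha' haa ha x) (fun x => N.SLin_sq hRH hb' hbb hb x) ?_ ?_
    · by_contra hc
      push Not at hc
      exact hs (RingEquiv.ext fun x => hc x)
    · by_contra hc
      push Not at hc
      exact ht (RingEquiv.ext fun x => hc x)
  have h4 : t.trans s = RingEquiv.refl F := by
    ext x
    have h5 : s (t x) = t (t x) := RingHom.congr_fun h3 (t x)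
    change s (t x) = x
    rw [h5]
    exact N.SLin_sq hRH hb' hbb hb x
  rwa [h4] at h1

theorem card_le [Finite Y] [Finite F] [CharP F 2] (hRH : R ≤ H) {A : Subgroup Y} (hA : A ≤ R) (hel : ElAb A)
    {j : Fin k} (hfix : ∀ a ∈ A, ∀ w ∈ WW V H R, co w j = 0 → co (a • w) j = 0)
    (hfaith : ∀ a ∈ A, (∀ w ∈ WW V H R, co (a • w) j = co w j) → a = 1) : Nat.card A ≤ Nat.card F := by
  classical
  have hSL : ∀ a ∈ A, ∃ s, SLin V H R co j a s := fun a ha => N.exists_SLin hRH (hA ha) (hfix a ha)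
  set S0 : Set Y := {a | a ∈ A ∧ SLin V H R co j a (RingEquiv.refl F)} with hS0
  have hγ : ∀ a : S0, ∃ γ : F, ∀ w ∈ WW V H R, co ((a : Y) • w) j = ![co w j 0 + γ * co w j 1, co w j 1] :=
    fun a => N.lin_of hRH (hA a.2.1) (hel.2 _ a.2.1) a.2.2
  choose γ hγ using hγ
  have hinj : Function.Injective γ := by
    intro a b hab
    have h1 : (b : Y)⁻¹ * a = 1 := by
      have h3 : (b : Y)⁻¹ = b := inv_eq_of_mul_eq_one_left (hel.2 _ b.2.1)
      rw [h3]
      refine hfaith _ (A.mul_mem b.2.1 a.2.1) fun w hw => ?_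
      have h2 : ∀ x : F, x + x = 0 := fun x => CharTwo.add_self_eq_zero x
      have haw := smul_mem_WW (hRH (hA a.2.1)) hw
      rw [mul_smul, hγ b _ haw, hγ a _ hw, hab]
      apply NatPair.ext2
      · simp only [Matrix.cons_val_zero, Matrix.cons_val_one]
        linear_combination h2 (γ b * co w j 1)
      · simp
    exact Subtype.ext (inv_mul_eq_one.1 h1).symm
  by_cases hall : ∀ a ∈ A, a ∈ S0
  · have h1 : Function.Injective (fun a : A => γ ⟨a, hall a a.2⟩) := by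
      intro a b hab
      have h1 := hinj hab
      simp only [Subtype.mk.injEq] at h1
      exact Subtype.ext h1
    exact Nat.card_le_card_of_injective _ h1
  push Not at hall
  obtain ⟨f, hf, hfn⟩ := hall
  obtain ⟨s, hs⟩ := hSL f hf
  have hsn : s ≠ RingEquiv.refl F := by
    rintro rfl
    exact hfn ⟨hf, hs⟩
  have hff := hel.2 f hf
  have hmul : ∀ a ∈ A, a ∉ S0 → f * a ∈ S0 := by
    intro a ha han
    obtain ⟨t, ht⟩ := hSL a ha
    refine ⟨A.mul_mem hf ha, lin_mul N hRH (hA hf) (hA ha) hff (hel.2 a ha) hs ht hsn ?_⟩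
    rintro rfl
    exact han ⟨ha, ht⟩
  have c1 : Nat.card A ≤ 2 * Nat.card S0 := by
    have h1 : Function.Injective (fun a : A => if h : (a : Y) ∈ S0 then ((false, ⟨a, h⟩) : Bool × S0)
        else (true, ⟨f * a, hmul a a.2 h⟩)) := by
      intro a b hab
      by_cases ha : (a : Y) ∈ S0 <;> by_cases hb : (b : Y) ∈ S0
      · simp only [ha, hb, dif_pos, Prod.mk.injEq, Subtype.mk.injEq, true_and] at hab
        exact Subtype.ext hab
      · simp [ha, hb] at hab
      · simp [ha, hb] at hab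
      · simp only [ha, hb, dif_neg, not_false_eq_true, Prod.mk.injEq, Subtype.mk.injEq, true_and,
          mul_right_inj] at hab
        exact Subtype.ext hab
    have h3 := Nat.card_le_card_of_injective _ h1
    rw [Nat.card_prod, Nat.card_eq_fintype_card (α := Bool), Fintype.card_bool] at h3
    exact h3
  have c2 : Nat.card S0 ≤ Nat.card {x : F // s x = x} := by
    by_cases h1 : ∀ a ∈ S0, a = 1
    · have h3 : Subsingleton S0 := ⟨fun a b => Subtype.ext ((h1 a a.2).trans (h1 b b.2).symm)⟩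
      have h4 : Nonempty {x : F // s x = x} := ⟨⟨0, map_zero s⟩⟩
      have h5 := (Finite.card_le_one_iff_subsingleton (α := S0)).2 h3
      have h6 : 0 < Nat.card {x : F // s x = x} := Nat.card_pos
      omega
    · push Not at h1
      obtain ⟨a0, ha0, hne⟩ := h1
      obtain ⟨α, κ, δ, hα, hδ, hform⟩ := N.semi_form hRH (hA hf) hs
      -- `γ_a δ = α s(γ_a)`
      have hrel : ∀ a : S0, γ a * δ = α * s (γ a) := by
        intro a
        obtain ⟨w, hw, hw0, hw1⟩ := N.exists_vec j 0 1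
        have h3 := hγ a _ (smul_mem_WW (hRH (hA hf)) hw)
        have h4 := hform _ (smul_mem_WW (hRH (hA a.2.1)) hw)
        rw [← mul_smul, hel.1 _ a.2.1 _ hf, mul_smul, h4, hγ a w hw, hform w hw, hw0, hw1] at h3
        have h5 := congrFun h3 0
        simp only [Matrix.cons_val_zero, Matrix.cons_val_one, map_one, mul_one, map_zero, mul_zero, zero_add] at h5
        linear_combination -h5
      have hγ0 : γ ⟨a0, ha0⟩ ≠ 0 := by
        intro h
        apply hne
        refine hfaith a0 ha0.1 fun w hw => ?_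
        rw [hγ ⟨a0, ha0⟩ w hw, h]
        apply NatPair.ext2 <;> simp
      set g0 := γ ⟨a0, ha0⟩ with hg0
      have hsg0 : s g0 ≠ 0 := fun h => hγ0 ((map_eq_zero s).1 h)
      have hfx : ∀ a : S0, s (γ a * g0⁻¹) = γ a * g0⁻¹ := by
        intro a
        rw [map_mul, map_inv₀]
        have h3 := hrel a
        have h4 := hrel ⟨a0, ha0⟩
        rw [← hg0] at h4
        rw [← div_eq_mul_inv, ← div_eq_mul_inv, div_eq_div_iff hsg0 hγ0]
        have h5 : α * (s (γ a) * g0) = α * (γ a * s g0) := by linear_combination -(g0 * h3) + γ a * h4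
        exact mul_left_cancel₀ hα h5
      have h3 : Function.Injective (fun a : S0 => (⟨γ a * g0⁻¹, hfx a⟩ : {x : F // s x = x})) := by
        intro a b hab
        have h4 : γ a * g0⁻¹ = γ b * g0⁻¹ := congrArg Subtype.val hab
        exact hinj (mul_right_cancel₀ (inv_ne_zero hγ0) h4)
      exact Nat.card_le_card_of_injective _ h3
  have c3 := fix_card s (by
    by_contra hc
    push Not at hc
    exact hsn (RingEquiv.ext fun x => hc x))
  omega

/-- (d), (z) : `|A| ≤ |F|` -/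
theorem card_le' [Finite Y] [Finite F] [CharP F 2] (hRH : R ≤ H) {A : Subgroup Y} (hA : A ≤ R) (hel : ElAb A)
    {S : Set Y} (hSA : S ⊆ A) (hS : Nat.card F ≤ Nat.card S) {j : Fin k} {v₀ : V} (hv₀ : v₀ ∈ WW V H R)
    (hsupp : ∀ i, i ≠ j → co v₀ i = 0) (hline : co v₀ j 1 ≠ 0)
    (hfaith : ∀ a ∈ A, (∀ w ∈ WW V H R, co (a • w) j = co w j) → a = 1)
    (hq : ∀ b ∈ A, ∀ s ∈ S, s • (b • v₀ + v₀) = b • v₀ + v₀) : Nat.card A ≤ Nat.card F := by
  classical
  by_cases hmv : ∀ a ∈ A, co (a • v₀) j ≠ 0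
  · refine N.card_le hRH hA hel (j := j) ?_ hfaith
    intro a ha w hw hwj
    obtain ⟨σ, β, s, hc⟩ := N.exists_ca (hRH (hA ha))
    have hσ : σ j = j := by
      by_contra hne
      obtain ⟨i, hi⟩ := σ.surjective j
      have hij : i ≠ j := fun e => hne (by rw [e] at hi; exact hi)
      apply hmv a ha
      rw [← hi, hc.act v₀ hv₀, hsupp i hij, hc.zero]
    have h1 := hc.act w hw j
    rw [hσ, hwj] at h1
    rw [h1, hc.zero]
  push Not at hmv
  obtain ⟨b, hb, hbj⟩ := hmv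
  have hne : co v₀ j ≠ 0 := fun h => hline (by rw [h]; rfl)
  -- supports
  have hsup : ∀ a ∈ A, ∀ i, co (a • v₀) i ≠ 0 → ∀ i', i' ≠ i → co (a • v₀) i' = 0 := by
    intro a ha i hi i' hi'
    obtain ⟨σ, β, s, hc⟩ := N.exists_ca (hRH (hA ha))
    have hz : ∀ i, β i 0 = 0 := hc.zero
    obtain ⟨l, rfl⟩ := σ.surjective i
    obtain ⟨l', rfl⟩ := σ.surjective i'
    have hlj : l = j := by
      by_contra h
      apply hi
      rw [hc.act v₀ hv₀, hsupp l h, hz]
    subst hlj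
    have hl' : l' ≠ l := fun e => hi' (by rw [e])
    rw [hc.act v₀ hv₀, hsupp l' hl', hz]
  have hmemW : ∀ a ∈ A, ∀ w ∈ WW V H R, a • w ∈ WW V H R := fun a ha w hw => smul_mem_WW (hRH (hA ha)) hw
  set E0 : Set Y := {n | n ∈ A ∧ co (n • v₀) j = co v₀ j} with hE0
  -- the key relation
  have hkey : ∀ b ∈ A, co (b • v₀) j = 0 → ∀ s ∈ S, (s ∈ E0 ∨ (co (s • v₀) j = 0 ∧ s * b ∈ E0)) := by
    intro b hb hbj s hs
    have hsA := hSA hs
    have h1 := hq b hb s hs
    have h3 : co (s • b • v₀ + s • v₀) j = co v₀ j := by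
      rw [← smul_add, h1, N.add _ (hmemW b hb _ hv₀) _ hv₀, Pi.add_apply, hbj, zero_add]
    rw [N.add _ (hmemW s hsA _ (hmemW b hb _ hv₀)) _ (hmemW s hsA _ hv₀), Pi.add_apply] at h3
    by_cases hsj : co (s • v₀) j = 0
    · right
      refine ⟨hsj, A.mul_mem hsA hb, ?_⟩
      rw [hsj, add_zero] at h3
      rw [mul_smul]
      exact h3
    · left
      refine ⟨hsA, ?_⟩
      -- `s` fixes `j`, `b` moves `j`
      have h4 : co (s • b • v₀) j = 0 := by
        obtain ⟨σ, β, t, hc⟩ := N.exists_ca (hRH (hA hsA))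
        have hz : ∀ i, β i 0 = 0 := hc.zero
        have hσ : σ j = j := by
          by_contra hne
          obtain ⟨i, hi⟩ := σ.surjective j
          have hij : i ≠ j := fun e => hne (by rw [e] at hi; exact hi)
          apply hsj
          rw [← hi, hc.act v₀ hv₀, hsupp i hij, hz]
        have h5 := hc.act _ (hmemW b hb _ hv₀) j
        rw [hσ, hbj, hz] at h5
        exact h5
      rw [h4, zero_add] at h3
      exact h3
  -- elements of `E0` fix `j`
  have hEfix : ∀ n ∈ E0, ∀ w ∈ WW V H R, co w j = 0 → co (n • w) j = 0 := by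
    intro n hn w hw hwj
    obtain ⟨σ, β, t, hc⟩ := N.exists_ca (hRH (hA hn.1))
    have hz : ∀ i, β i 0 = 0 := hc.zero
    have hσ : σ j = j := by
      by_contra hne'
      obtain ⟨i, hi⟩ := σ.surjective j
      have hij : i ≠ j := fun e => hne' (by rw [e] at hi; exact hi)
      apply hne
      rw [← hn.2, ← hi, hc.act v₀ hv₀, hsupp i hij, hz]
    have h1 := hc.act w hw j
    rw [hσ, hwj, hz] at h1
    exact h1
  -- linear elements of `E0` are trivial
  have hElin : ∀ n ∈ E0, SLin V H R co j n (RingEquiv.refl F) → n = 1 := by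
    intro n hn hl
    obtain ⟨γ, hγ⟩ := N.lin_of hRH (hA hn.1) (hel.2 n hn.1) hl
    have h1 := hγ v₀ hv₀
    rw [hn.2] at h1
    have h3 := congrFun h1 0
    simp only [Matrix.cons_val_zero] at h3
    have h4 : γ = 0 := by
      rcases mul_eq_zero.1 (left_eq_add.1 h3) with h | h
      · exact h
      · exact absurd h hline
    refine hfaith n hn.1 fun w hw => ?_
    rw [hγ w hw, h4]
    apply NatPair.ext2 <;> simp
  have c1 : 2 * Nat.card E0 ≤ Nat.card F := by
    have hF2 : 2 ≤ Nat.card F := Finite.one_lt_card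
    by_cases h1 : ∀ n ∈ E0, n = 1
    · have h3 : Subsingleton E0 := ⟨fun a b => Subtype.ext ((h1 a a.2).trans (h1 b b.2).symm)⟩
      have h5 := (Finite.card_le_one_iff_subsingleton (α := E0)).2 h3
      omega
    · push Not at h1
      obtain ⟨f, hf, hf1⟩ := h1
      obtain ⟨s, hs⟩ := N.exists_SLin hRH (hA hf.1) (hEfix f hf)
      have hsn : s ≠ RingEquiv.refl F := by
        rintro rfl
        exact hf1 (hElin f hf hs)
      have h3 : ∀ n : E0, n = ⟨f, hf⟩ ∨ (n : Y) = 1 := by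
        rintro ⟨n, hn⟩
        by_cases hn1 : n = 1
        · exact Or.inr hn1
        left
        obtain ⟨t, ht⟩ := N.exists_SLin hRH (hA hn.1) (hEfix n hn)
        have htn : t ≠ RingEquiv.refl F := by
          rintro rfl
          exact hn1 (hElin n hn ht)
        have h4 := lin_mul N hRH (hA hf.1) (hA hn.1) (hel.2 f hf.1) (hel.2 n hn.1) hs ht hsn htn
        have h5 : f * n ∈ E0 := by
          refine ⟨A.mul_mem hf.1 hn.1, ?_⟩
          -- `n v₀ = v₀` mod other stuff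
          have h6 : co (n • v₀) = co v₀ := by
            funext i
            by_cases hi : i = j
            · subst hi; exact hn.2
            · rw [hsupp i hi]
              exact hsup n hn.1 j (by rw [hn.2]; exact hne) i hi
          have h7 : co (f • n • v₀) = co (f • v₀) := by
            rw [← N.co_eq (hmemW f hf.1 _ (hmemW n hn.1 _ hv₀)) (hmemW f hf.1 _ hv₀), ← smul_add,
              N.co_smul_zero (hRH (hA hf.1)) (add_mem (hmemW n hn.1 _ hv₀) hv₀),
              N.co_eq (hmemW n hn.1 _ hv₀) hv₀]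
            exact h6
          rw [mul_smul, h7, hf.2]
        have h8 := hElin _ h5 h4
        apply Subtype.ext
        have h9 : f⁻¹ = f := inv_eq_of_mul_eq_one_left (hel.2 f hf.1)
        have h10 := eq_inv_of_mul_eq_one_right h8
        rw [h9] at h10
        exact h10
      have h4 : Nat.card E0 ≤ 2 := by
        have h5 : Function.Injective (fun n : E0 => decide ((n : Y) = 1)) := by
          intro a b hab
          have hab' : ((a : Y) = 1) ↔ ((b : Y) = 1) := by simpa using hab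
          rcases h3 a with ha | ha
          · rcases h3 b with hb | hb
            · rw [ha, hb]
            · exact Subtype.ext ((hab'.2 hb).trans hb.symm)
          · exact Subtype.ext (ha.trans (hab'.1 ha).symm)
        have h6 := Nat.card_le_card_of_injective _ h5
        rwa [Nat.card_eq_fintype_card (α := Bool), Fintype.card_bool] at h6
      have h5 := fix_card s (by
        by_contra hc
        push Not at hc
        exact hsn (RingEquiv.ext fun x => hc x))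
      have h6 : 2 ≤ Nat.card {x : F // s x = x} := by
        have h7 : Function.Injective (fun b : Bool =>
            (if b then ⟨1, map_one s⟩ else ⟨0, map_zero s⟩ : {x : F // s x = x})) := by
          intro b b' hb
          cases b <;> cases b' <;> simp at hb ⊢
        have h8 := Nat.card_le_card_of_injective _ h7
        rwa [Nat.card_eq_fintype_card (α := Bool), Fintype.card_bool] at h8
      omega
  -- some `s ∈ S` moves `j`
  have hex : ∃ s ∈ S, co (s • v₀) j = 0 := by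
    by_contra hc
    push Not at hc
    have h1 : S ⊆ E0 := by
      intro s hs
      rcases hkey b hb hbj s hs with h | ⟨h, -⟩
      · exact h
      · exact absurd h (hc s hs)
    have h3 : Nat.card S ≤ Nat.card E0 := Nat.card_mono (Set.toFinite _) h1
    have h4 : 0 < Nat.card F := Nat.card_pos
    omega
  obtain ⟨s, hs, hsj⟩ := hex
  have hsA := hSA hs
  have hsE : s ∉ E0 := fun h => hne (by rw [← h.2, hsj])
  have hm : ∀ a ∈ A, co (a • v₀) j = 0 → s * a ∈ E0 := by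
    intro a ha haj
    rcases hkey a ha haj s hs with h | ⟨-, h⟩
    · exact absurd h hsE
    · exact h
  have hfx : ∀ a ∈ A, co (a • v₀) j ≠ 0 → a ∈ E0 := by
    intro a ha haj
    have h1 := hm (s * a) (A.mul_mem hsA ha) (by
      rw [hel.1 s hsA a ha, mul_smul]
      obtain ⟨σ, β, t, hc⟩ := N.exists_ca (hRH (hA ha))
      have hz : ∀ i, β i 0 = 0 := hc.zero
      have hσ : σ j = j := by
        by_contra hne'
        obtain ⟨i, hi⟩ := σ.surjective j
        have hij : i ≠ j := fun e => hne' (by rw [e] at hi; exact hi)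
        apply haj
        rw [← hi, hc.act v₀ hv₀, hsupp i hij, hz]
      have h5 := hc.act _ (hmemW s hsA _ hv₀) j
      rw [hσ, hsj, hz] at h5
      exact h5)
    rwa [← mul_assoc, hel.2 s hsA, one_mul] at h1
  have h1 : Function.Injective (fun a : A => if h : co ((a : Y) • v₀) j = 0 then
      ((true, ⟨s * a, hm a a.2 h⟩) : Bool × E0) else (false, ⟨a, hfx a a.2 h⟩)) := by
    intro a b hab
    by_cases ha : co ((a : Y) • v₀) j = 0 <;> by_cases hb : co ((b : Y) • v₀) j = 0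
    · simp only [ha, hb, dif_pos, Prod.mk.injEq, Subtype.mk.injEq, true_and, mul_right_inj] at hab
      exact Subtype.ext hab
    · simp [ha, hb] at hab
    · simp [ha, hb] at hab
    · simp only [ha, hb, dif_neg, not_false_eq_true, Prod.mk.injEq, Subtype.mk.injEq, true_and] at hab
      exact Subtype.ext hab
  have h3 := Nat.card_le_card_of_injective _ h1
  rw [Nat.card_prod, Nat.card_eq_fintype_card (α := Bool), Fintype.card_bool] at h3
  omega

end KNat

end Cfsg.Agent.Omega.NO1.TH.K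

end

section


/-!
# N1-ONE, (B) of #19584, natural type (helper247 #20646): `W = V₀ + ∑ W_j^++`

* `KNat.smul_pp` : `R` permutes the `PP j`;
* `KNat.acts_add` : `h w + w ∈ ⨆ PP j` for `h` acting by matrices;
* `KNat.le_pp` : `W ≤ fx V R ⊔ ⨆ j, PP j`;
* `KNat.exists_off` : if `fx V R ≤ E`, `W ≰ E` there is `v ∈ PP j`, `v ∉ E`, not in the fixed line.
-/

set_option autoImplicit false
set_option linter.unusedSectionVars false

namespace Cfsg.Agent.Omega.NO1.TH.K

open Subgroup Cfsg.Agent.Omega.NO1.AB Cfsg.Agent.Lib.SL2Mat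
open Cfsg.Agent.Omega.NatPair (ap)
open scoped Pointwise

universe u

variable {Y : Type u} [Group Y] {V : Type u} [AddCommGroup V] [DistribMulAction Y V] {H R : Subgroup Y}
  {F : Type} [Field F] {k : ℕ} {co : V → Fin k → Fin 2 → F}

namespace KNat

variable (N : KNat V H R F k co)
include N

/-- `H` permutes the `PP j` -/
theorem smul_pp [CharP F 2] {r : Y} (hr : r ∈ H) (j : Fin k) :
    ∃ j', ∀ v ∈ PP V H R co j, r • v ∈ PP V H R co j' := by
  obtain ⟨σ, hσ⟩ := N.perm r hr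
  refine ⟨σ j, fun v hv => ?_⟩
  refine AddSubgroup.closure_induction ?_ ?_ ?_ ?_ hv
  · rintro _ ⟨g, hg, A, hA, hAi, w, hw, rfl⟩
    have hr' : r⁻¹ ∈ H := H.inv_mem hr
    have hgr : r * g * r⁻¹ ∈ H := H.mul_mem (H.mul_mem hr hg) hr'
    obtain ⟨B, hB⟩ := N.norm r hr g hg A hA.1
    have hsm : ∀ v : V, (r * g * r⁻¹) • v = r • g • r⁻¹ • v := fun v => by rw [mul_smul, mul_smul]
    refine AddSubgroup.subset_closure ⟨r * g * r⁻¹, hgr, B, ⟨hB, ?_⟩, ?_, r • w, smul_mem_WW hr hw, ?_⟩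
    · intro d hd hd0
      rw [hsm, hA.2 _ (smul_mem_WW hr' hd) ((N.co_smul_zero hr' hd).2 hd0), smul_inv_smul]
    · intro i hi
      apply NatPair.ap_inj
      intro x
      obtain ⟨v, hv, hvx⟩ := N.exists_sgl i x
      have hx : co v i = x := by rw [hvx, Pi.single_eq_same]
      rw [NatPair.ap_one, ← hx, ← hB v hv, ← N.sub_ad (smul_mem_WW hgr hv) hv]
      obtain ⟨i', rfl⟩ := σ.surjective i
      have hi' : i' ≠ j := fun e => hi (by rw [e])
      have hv' := smul_mem_WW hr' hv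
      have e : (r * g * r⁻¹) • v + v = r • (g • r⁻¹ • v + r⁻¹ • v) := by
        rw [hsm, smul_add, smul_inv_smul]
      rw [e, hσ _ (add_mem (smul_mem_WW hg hv') hv'), N.sub_ad (smul_mem_WW hg hv') hv', hA.1 _ hv', hAi i' hi',
        NatPair.ap_one]
    · rw [hsm, inv_smul_smul, smul_add]
  · rw [smul_zero]; exact zero_mem _
  · intro a b _ _ ha hb
    rw [smul_add]
    exact add_mem ha hb
  · intro a _ ha
    rw [smul_neg]
    exact neg_mem ha

/-- `h w + w ∈ ⨆ PP j` for `h` acting by matrices -/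
theorem acts_add [CharP F 2] (h2 : ∀ v : V, v + v = 0) {h : Y} (hh : h ∈ H)
    {A : Fin k → Matrix.SpecialLinearGroup (Fin 2) F} (hA : Acts V H R co h A) {w : V} (hw : w ∈ WW V H R) :
    h • w + w ∈ ⨆ j, PP V H R co j := by
  classical
  have key : ∀ s : Finset (Fin k), ∀ h ∈ H, ∀ A, Acts V H R co h A → (∀ i, i ∉ s → A i = 1) →
      ∀ w ∈ WW V H R, h • w + w ∈ ⨆ j, PP V H R co j := by
    intro s
    induction s using Finset.induction_on with
    | empty =>
      intro h hh A hA hAi w hw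
      have h1 := N.trivH h hh (fun w hw => by
        funext i
        rw [hA.1 w hw, hAi i (by simp), NatPair.ap_one]) w hw
      rw [h1, h2]
      exact zero_mem _
    | insert j s hj ih =>
      intro h hh A hA hAi w hw
      obtain ⟨g, hg, hgA⟩ := N.lift (Pi.mulSingle j (A j))
      obtain ⟨h', hh', hA'⟩ := N.lift (Function.update A j 1)
      have h1 : h • w = h' • g • w := by
        rw [← mul_smul]
        refine N.eqOn hh (H.mul_mem hh' hg) ?_ hw
        intro w hw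
        rw [mul_smul]
        funext i
        rw [hA.1 w hw, hA'.1 _ (smul_mem_WW hg hw), hgA.1 w hw]
        by_cases hi : i = j
        · subst hi
          rw [Function.update_self, NatPair.ap_one, Pi.mulSingle_eq_same]
        · rw [Function.update_of_ne hi, Pi.mulSingle_eq_of_ne hi, NatPair.ap_one]
      have h3 := ih h' hh' _ hA' (by
        intro i hi
        by_cases hij : i = j
        · subst hij
          rw [Function.update_self]
        · rw [Function.update_of_ne hij]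
          exact hAi i (by simp [hij, hi])) (g • w) (smul_mem_WW hg hw)
      have h4 : g • w + w ∈ PP V H R co j := AddSubgroup.subset_closure
        ⟨g, hg, _, hgA, fun i hi => Pi.mulSingle_eq_of_ne hi _, w, hw, rfl⟩
      have e : h • w + w = (h' • g • w + g • w) + (g • w + w) := by
        rw [h1]
        have : h' • g • w + g • w + (g • w + w) = h' • g • w + w + (g • w + g • w) := by abel
        rw [this, h2, add_zero]
      rw [e]
      exact add_mem h3 ((le_iSup (fun j => PP V H R co j) j) h4)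
  exact key Finset.univ h hh A hA (fun i hi => absurd (Finset.mem_univ i) hi) w hw

/-- **`W = V₀ + ∑ W_j^++`** -/
theorem le_pp [CharP F 2] (h2 : ∀ v : V, v + v = 0) (hRH : R ≤ H) :
    WW V H R ≤ fx V R ⊔ ⨆ j, PP V H R co j := by
  set S := fx V R ⊔ ⨆ j, PP V H R co j with hS
  have hSW : S ≤ WW V H R := sup_le fx_le_WW (iSup_le fun j => PP_le_WW j)
  have hRS : ∀ r ∈ R, ∀ v ∈ S, r • v ∈ S := by
    intro r hr v hv
    obtain ⟨x, hx, y, hy, rfl⟩ := AddSubgroup.mem_sup.1 hv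
    rw [smul_add, hx r hr]
    refine add_mem (AddSubgroup.mem_sup_left hx) ?_
    refine AddSubgroup.mem_sup_right ?_
    refine AddSubgroup.iSup_induction (fun j => PP V H R co j) (C := fun y => r • y ∈ ⨆ j, PP V H R co j) hy
      ?_ ?_ ?_
    · intro j v hv
      obtain ⟨j', hj'⟩ := N.smul_pp (hRH hr) j
      exact (le_iSup (fun j => PP V H R co j) j') (hj' v hv)
    · rw [smul_zero]; exact zero_mem _
    · intro a b ha hb
      rw [smul_add]
      exact add_mem ha hb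
  have hAS : ∀ h ∈ H, ∀ A, Acts V H R co h A → ∀ v ∈ S, h • v ∈ S := by
    intro h hh A hA v hv
    have h1 := N.acts_add h2 hh hA (hSW hv)
    have e : h • v = (h • v + v) + v := by rw [add_assoc, h2, add_zero]
    rw [e]
    exact add_mem (AddSubgroup.mem_sup_right h1) hv
  let K : Subgroup Y :=
    { carrier := {h | h ∈ H ∧ (∀ v ∈ S, h • v ∈ S) ∧ ∀ v ∈ S, h⁻¹ • v ∈ S}
      one_mem' := ⟨H.one_mem, fun v hv => by rwa [one_smul], fun v hv => by rwa [inv_one, one_smul]⟩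
      mul_mem' := fun {a b} ha hb => ⟨H.mul_mem ha.1 hb.1, fun v hv => by
        rw [mul_smul]; exact ha.2.1 _ (hb.2.1 v hv), fun v hv => by
        rw [mul_inv_rev, mul_smul]; exact hb.2.2 _ (ha.2.2 v hv)⟩
      inv_mem' := fun {a} ha => ⟨H.inv_mem ha.1, ha.2.2, fun v hv => by rw [inv_inv]; exact ha.2.1 v hv⟩ }
  have hK : K = H := by
    apply N.gen
    · intro r hr
      exact ⟨hRH hr, hRS r hr, hRS r⁻¹ (R.inv_mem hr)⟩
    · intro h hh
      exact hh.1
    · intro h hh A hA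
      refine ⟨hh, hAS h hh A hA, ?_⟩
      refine hAS h⁻¹ (H.inv_mem hh) (fun i => (A i)⁻¹) ⟨?_, ?_⟩
      · intro v hv i
        have h1 := hA.1 _ (smul_mem_WW (H.inv_mem hh) hv) i
        rw [smul_inv_smul] at h1
        rw [h1, NatPair.ap_inv_ap]
      · intro d hd hd0
        rw [inv_smul_eq_iff]
        exact (hA.2 d hd hd0).symm
  refine WW_le fun x hx w hw => ?_
  have hx' : x ∈ K := by rw [hK]; exact hx
  exact hx'.2.1 w (AddSubgroup.mem_sup_left hw)

/-- a vector of `PP j` outside `E`, not in the fixed line -/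
theorem exists_off [CharP F 2] (h2 : ∀ v : V, v + v = 0) (hRH : R ≤ H) (E : AddSubgroup V) (hfx : fx V R ≤ E)
    (h : ¬ WW V H R ≤ E) : ∃ j, ∃ v ∈ PP V H R co j, v ∉ E ∧ co v j 1 ≠ 0 := by
  have h1 : ∃ j, ¬ PP V H R co j ≤ E := by
    by_contra hc
    push Not at hc
    exact h ((N.le_pp h2 hRH).trans (sup_le hfx (iSup_le hc)))
  obtain ⟨j, hj⟩ := h1
  obtain ⟨v₁, hv₁, hv₁E⟩ := SetLike.not_le_iff_exists.1 hj
  by_cases hc : co v₁ j 1 = 0
  · obtain ⟨v₂, hv₂, hco⟩ := N.pp_onto j (![0, 1] : Fin 2 → F)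
    have h3 : co v₂ j 1 = 1 := by rw [hco, Pi.single_eq_same]; simp
    by_cases hE : v₂ ∈ E
    · refine ⟨j, v₁ + v₂, add_mem hv₁ hv₂, fun h4 => ?_, ?_⟩
      · apply hv₁E
        have h5 := add_mem h4 hE
        rwa [add_assoc, h2, add_zero] at h5
      · rw [N.add _ (PP_le_WW j hv₁) _ (PP_le_WW j hv₂), Pi.add_apply, Pi.add_apply, hc, h3, zero_add]
        exact one_ne_zero
    · exact ⟨j, v₂, hv₂, hE, by rw [h3]; exact one_ne_zero⟩
  · exact ⟨j, v₁, hv₁, hv₁E, hc⟩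

end KNat

end Cfsg.Agent.Omega.NO1.TH.K

end

section


/-!
# N1-ONE, (B) of #19584, natural type (helper247 #20646): (g) and (e)

`A ≤ H` a member, opposite: `hO : Opp V H R co A I`; `hb` = (b) of #20646: `W ∩ W' ≤ W_J`.

* `TwoN.g_Q` : `s_y ∈ Q` for `y ∈ W' ∩ E_A`;
* `TwoN.g_fix` : `S₁` centralises `W' ∩ E_A`;
* `TwoN.e_triv` : the computation (a) for `B₁ = A ∩ Q` on `W'`;
* `TwoN.e_SK` : `S_X ≤ Q ∩ Q'` if `W' ≤ E_A`;
* `TwoN.e_exact` : `B₁` acts on `W'` as `R'_Δ`, `Δ ≠ ∅`;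
* `TwoN.e_CK` : `C_V(K) = W + W' + F_A`;
* `TwoN.e_card` : `|A| ≥ |F|⁴`, `|S_X| ≥ |F|²`.
-/

set_option autoImplicit false
set_option linter.unusedSectionVars false

namespace Cfsg.Agent.Omega.NO1.TH.K

open Subgroup Cfsg.Agent.Omega.NO1.AB Cfsg.Agent.Omega.FFBr Cfsg.Agent.Lib.SL2Mat
open Cfsg.Agent.Omega.NatPair (ap)
open scoped Pointwise

universe u

variable {Y : Type u} [Group Y] {V : Type u} [AddCommGroup V] [DistribMulAction Y V]

/-- the computation (a) for a family `σ` with `[x, σ y] = [y, σ x]` -/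
theorem KNat.triv_of {H R : Subgroup Y} {F : Type} [Field F] {k : ℕ} {co : V → Fin k → Fin 2 → F}
    (K : KNat V H R F k co) (two : ∀ v : V, v + v = 0) (hRH : R ≤ H) {B : Subgroup Y} (hBR : B ≤ R)
    {I : Set (Fin k)} (hS : Supp V H R co B I) (σ : V → Y) (h1 : ∀ y ∈ WW V H R, σ y ∈ B)
    (h2 : ∀ y ∈ WW V H R, σ y • y = y)
    (h3 : ∀ x ∈ WW V H R, ∀ y ∈ WW V H R, σ y • x + x = σ x • y + y) : ∀ y ∈ WW V H R, σ y ∈ QQ H R := by
  intro y hy
  obtain ⟨b, hb0, hb⟩ := hS.act _ (h1 y hy)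
  apply K.mem_Q_of_up_zero two hRH (hBR (h1 y hy)) hb
  intro i
  by_cases hi : co y i 1 = 0
  · obtain ⟨z, hz, hzi, _⟩ := K.exists_at i ![0, 1]
    have hz1 : co z i 1 = 1 := by rw [hzi]; rfl
    obtain ⟨c, hc0, hc⟩ := hS.act _ (h1 z hz)
    have h4 := h3 z hz y hy
    have h5 : co (σ y • z + z) i 0 = b i := by
      rw [K.add_apply (smul_mem_WW (hRH (hBR (h1 y hy))) hz) hz, hb.up_fst hz, hz1, hzi]
      simp
    have h6 : co (σ z • y + y) i 0 = 0 := by
      rw [K.add_apply (smul_mem_WW (hRH (hBR (h1 z hz))) hy) hy, hc.up_fst hy, hi, mul_zero, add_zero]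
      exact K.ff two i _
    rw [← h5, h4, h6]
  · have h4 := hb.up_fst hy i
    rw [h2 y hy] at h4
    rcases mul_eq_zero.1 (left_eq_add.1 h4) with h | h
    · exact h
    · exact absurd h hi

theorem card_le_fun {F : Type} [Finite F] {k : ℕ} {I : Set (Fin k)} (hI : I.Nonempty) :
    Nat.card F ≤ Nat.card (I → F) := by
  obtain ⟨i, hi⟩ := hI
  exact Nat.card_le_card_of_injective (fun x : F => fun _ : I => x) fun x y hxy => congrFun hxy ⟨i, hi⟩

namespace TwoN

variable [Finite Y] [Finite V] {U : Set (Subgroup Y)} {T : Sylow 2 Y} {M H H' R : Subgroup Y} {F : Type} [Field F]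
  {k : ℕ} {co co' : V → Fin k → Fin 2 → F} {t : Y} (h : TwoN V U T M H H' R F k co co' t)
include h

section g

variable (hb : ∀ v ∈ WW V H R, v ∈ WW V H' R → ∀ i, co v i 1 = 0) {A : Subgroup Y} (hA : A ∈ U) (hAH : A ≤ H)
  {I : Set (Fin k)} (hO : Opp V H R co A I) {w : V} (hw : w ∉ Ee V A)
include hb hA hAH hO hw

/-- **(g)**: `s_y ∈ Q` for `y ∈ W' ∩ E_A` -/
theorem g_Q {y : V} (hy : y ∈ WW V H' R) {s : Y} (hs : s ∈ A)
    (h1 : s • w + w + y ∈ fx V A) : s ∈ QQ H R := by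
  have hm := h.amb.cls.mem A hA
  have two := h.amb.two
  have hWE : WW V H R ≤ Ee V A := h.a.WW_le_Ee h.amb h.we hA hAH
  obtain ⟨b, hb0, hbs⟩ := hO.act s hs
  have h2 : s ∈ A ⊓ CW V H R := by
    refine ⟨hs, fun x hx => ?_⟩
    refine h.K.trivH s (hAH hs) (fun x hx => ?_) x hx
    obtain ⟨r, hr, hrx⟩ := hm.surj w hw x (hWE hx)
    have h3 := mem_Q_of_shift h.K h.amb h.a h.we hA hAH hw hx hr hrx
    have h4 : s • x + x = r • y + y := s_symm two hm hr hs hrx h1
    have hsx := smul_mem_WW (hAH hs) hx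
    have h5 : s • x + x ∈ WW V H' R := by
      rw [h4]
      exact add_mem (smul_mem_WW (h.a'.RH (QQ_le h3)) hy) hy
    refine h.K.co_eq_of_add two hsx hx ?_
    funext i
    apply NatPair.ext2
    · rw [h.K.add_apply hsx hx, hbs.lo_fst hx]
      exact h.K.ff two i _
    · exact hb _ (add_mem hsx hx) h5 i
  rw [h.a.inf_CW' h.amb hA hAH] at h2
  exact h2.2

/-- **(g)**: `S₁` centralises `W' ∩ E_A` -/
theorem g_fix {y : V} (hy : y ∈ WW V H' R) (hyE : y ∈ Ee V A) {s : Y} (hs : s ∈ A)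
    (h1 : s • w + w ∈ WW V H R ⊔ fx V A) : s • y = y := by
  have hm := h.amb.cls.mem A hA
  have two := h.amb.two
  obtain ⟨x, hx, f, hf, hxf⟩ := AddSubgroup.mem_sup.1 h1
  have h2 : s • w + w + x ∈ fx V A := by
    rw [← hxf]
    have e : x + f + x = (x + x) + f := by abel
    rw [e, two, zero_add]
    exact hf
  obtain ⟨r, hr, hry⟩ := hm.surj w hw y hyE
  have h3 := h.g_Q hb hA hAH hO hw hy hr hry
  have h4 : r • x + x = s • y + y := s_symm two hm hs hr h2 hry
  rw [Amal.QQ_fix h.a h.amb h3 hx, two] at h4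
  exact (HE.add_eq_zero' two).1 h4.symm

end g

/-- `|A ∩ Q| |F|^|I| ≤ |A|` -/
theorem opp_card {A : Subgroup Y} (hA : A ∈ U) (hAH : A ≤ H) {I : Set (Fin k)} (hO : Opp V H R co A I) :
    Nat.card ↥(A ⊓ QQ H R) * Nat.card (I → F) ≤ Nat.card A := by
  have h1 := h.a.exact' h.amb h.we hA hAH
  have h2 : WW V H R ⊓ fx V A ≤ cut h.K I 0 := by
    rintro v ⟨hv, hf⟩
    exact ⟨hv, fun i hi => hO.fx_le hv hf hi⟩
  have h3 := Nat.card_le_card_of_injective _ (AddSubgroup.inclusion_injective h2)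
  have h4 := card_cut h.K I 0
  have h5 : 0 < Nat.card ↥(cut h.K I 0) := Nat.card_pos
  apply Nat.le_of_mul_le_mul_left _ h5
  calc Nat.card ↥(cut h.K I 0) * (Nat.card ↥(A ⊓ QQ H R) * Nat.card (I → F))
      = Nat.card ↥(cut h.K I 0) * Nat.card (I → F) * Nat.card ↥(A ⊓ QQ H R) := by ring
    _ = Nat.card A * Nat.card ↥(WW V H R ⊓ fx V A) := by rw [← h4, h1]
    _ ≤ Nat.card A * Nat.card ↥(cut h.K I 0) := Nat.mul_le_mul_left _ h3
    _ = _ := mul_comm _ _

/-- `A ∩ Q ≰ Q'` -/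
theorem not_le {A : Subgroup Y} (hA : A ∈ U) (hAH : A ≤ H) (hAM : ¬ A ≤ M) : ¬ A ⊓ QQ H R ≤ QQ H' R := by
  intro h1
  obtain ⟨b, hb, hb'⟩ := h.a.star h.amb h.we hA hAH hAM
  apply hb'
  have e : QQ H' R = MulAut.conj t • QQ H R := by
    have h2 := QQ_conj' (H := H) (R := R) t
    rw [conj_of_mem h.a.t_norm] at h2
    rw [h.H'_eq]
    exact h2
  rw [← e]
  exact h1 hb

/-- **(e)**: `B₁` acts on `W'` as `R'_Δ` -/
theorem e_exact {A : Subgroup Y} (hA : A ∈ U) (hAH : A ≤ H) (hAM : ¬ A ≤ M) (hE : WW V H' R ≤ Ee V A) :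
    ∃ Δ : Set (Fin k), Δ.Nonempty ∧ Supp V H' R co' (A ⊓ QQ H R) Δ := by
  have h1 := (Amal.e_one h.a h.a' h.amb h.we h.we' hA hAH hE).1
  exact h.K'.exists_supp_of h.amb.two h.a'.RH (inf_le_right.trans QQ_le)
    (ElAb.mono (Mem.elAb (h.amb.cls.mem A hA)) inf_le_left) (h.not_le hA hAH hAM) h1.le

section e

variable (hb : ∀ v ∈ WW V H R, v ∈ WW V H' R → ∀ i, co v i 1 = 0) {A : Subgroup Y} (hA : A ∈ U) (hAH : A ≤ H)
  (hAM : ¬ A ≤ M) {I : Set (Fin k)} (hO : Opp V H R co A I) (hE : WW V H' R ≤ Ee V A) {w : V} (hw : w ∉ Ee V A)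
include hb hA hAH hAM hO hE hw

/-- **(e)**: `S_X ≤ K` -/
theorem e_SK : ∀ s ∈ A, s • w + w ∈ WW V H R ⊔ WW V H' R ⊔ fx V A → s ∈ QQ H R ∧ s ∈ QQ H' R := by
  obtain ⟨Δ, _, hS⟩ := h.e_exact hA hAH hAM hE
  refine Amal.e_SK h.a h.a' h.amb h.we h.we' hA hAH hE hw ?_ ?_ ?_
  · intro s hs h1
    obtain ⟨x, hx, f, hf, hxf⟩ := AddSubgroup.mem_sup.1 h1
    refine mem_Q_of_shift h.K h.amb h.a h.we hA hAH hw hx hs ?_
    rw [← hxf]
    have e : x + f + x = (x + x) + f := by abel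
    rw [e, h.amb.two, zero_add]
    exact hf
  · intro s hs h1 y hy
    exact h.g_fix hb hA hAH hO hw hy (hE hy) hs h1
  · intro σ h1 h2 h3
    exact h.K'.triv_of h.amb.two h.a'.RH (inf_le_right.trans QQ_le) hS σ h1 h2 h3

/-- **(e)**: `C_V(K) = W + W' + F_A` -/
theorem e_CK (hAQ : ¬ A ≤ QQ H R) :
    fx V (A ⊓ QQ H R ⊓ QQ H' R) = WW V H R ⊔ WW V H' R ⊔ fx V A :=
  Amal.e_CK h.a h.a' h.amb h.we h.we' hA hAH hE hw hAQ (h.not_le hA hAH hAM)
    (h.e_SK hb hA hAH hAM hO hE hw)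

/-- **(e)**: `|A| ≥ |F|⁴`, `|S_X| ≥ |F|²` -/
theorem e_card [Finite F] (hI : I.Nonempty) :
    Nat.card F ^ 2 ≤ Nat.card {s : Y // s ∈ A ∧ s • w + w ∈ WW V H R ⊔ WW V H' R ⊔ fx V A} ∧
      Nat.card F ^ 4 ≤ Nat.card A := by
  obtain ⟨Δ, hΔ, hS⟩ := h.e_exact hA hAH hAM hE
  have h1 := Amal.e_S h.a h.a' h.amb h.we h.we' hA hAH hE hw
  have h2 := h.opp_card hA hAH hO
  have h3 : Nat.card ↥(A ⊓ QQ H R) = Nat.card ↥(A ⊓ QQ H R ⊓ QQ H' R) * Nat.card (Δ → F) :=
    hS.card h.K' h.amb.two h.a'.RH (Q_fix h.amb h.a') (inf_le_right.trans QQ_le)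
  have h4 : Nat.card {s : Y // s ∈ A ∧ s • w + w ∈ WW V H R ⊔ WW V H' R ⊔ fx V A} ≤
      Nat.card ↥(A ⊓ QQ H R ⊓ QQ H' R) := by
    have hSK := h.e_SK hb hA hAH hAM hO hE hw
    apply Nat.card_le_card_of_injective
      (fun s : {s : Y // s ∈ A ∧ s • w + w ∈ WW V H R ⊔ WW V H' R ⊔ fx V A} =>
        (⟨s, ⟨s.2.1, (hSK s s.2.1 s.2.2).1⟩, (hSK s s.2.1 s.2.2).2⟩ : ↥(A ⊓ QQ H R ⊓ QQ H' R)))
    intro s r hsr
    exact Subtype.ext (congrArg (fun z : ↥(A ⊓ QQ H R ⊓ QQ H' R) => (z : Y)) hsr)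
  have h5 : Nat.card F ≤ Nat.card (I → F) := card_le_fun hI
  have h6 : Nat.card F ≤ Nat.card (Δ → F) := card_le_fun hΔ
  set κ := Nat.card ↥(A ⊓ QQ H R ⊓ QQ H' R) with hκ
  set σ := Nat.card {s : Y // s ∈ A ∧ s • w + w ∈ WW V H R ⊔ WW V H' R ⊔ fx V A} with hσ
  have h7 : 0 < κ := Nat.card_pos
  have h8 : Nat.card F ^ 2 ≤ σ := by
    apply Nat.le_of_mul_le_mul_left _ h7
    calc κ * Nat.card F ^ 2 = κ * Nat.card F * Nat.card F := by ring
      _ ≤ κ * Nat.card (Δ → F) * Nat.card (I → F) := Nat.mul_le_mul (Nat.mul_le_mul_left _ h6) h5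
      _ ≤ Nat.card A := by rw [← h3]; exact h2
      _ = κ * σ := h1.symm
  refine ⟨h8, ?_⟩
  calc Nat.card F ^ 4 = Nat.card F ^ 2 * Nat.card F ^ 2 := by ring
    _ ≤ κ * σ := Nat.mul_le_mul (h8.trans h4) h8
    _ = Nat.card A := h1

end e

end TwoN

end Cfsg.Agent.Omega.NO1.TH.K

end

end

-- merged: Cfsg.Agent.Mrg.Omega.NO1.TH.K.ZedN
section

section


/-!
# N1, natural type with `k` factors: (z) of bb OMEGA 20646

* `KNat.zcore` : the common argument for both halves of (z) (over helper29's `KNat.card_le'`);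
* `TwoN.z_one` : `⟨W'^H⟩ ≤ E_A`; `TwoN.z_two` : `⟨W^H'⟩ ≤ E_A`, for an opposite member `A` with `W' ≤ E_A`.
-/

set_option autoImplicit false
set_option linter.unusedSectionVars false
set_option linter.dupNamespace false

namespace Cfsg.Agent.Omega.NO1.TH.K

open Subgroup Cfsg.Agent.Omega.NO1.AB Cfsg.Agent.Omega.FFBr Cfsg.Agent.Lib.SL2Mat
open scoped Pointwise

universe u

variable {Y : Type u} [Group Y] {V : Type u} [AddCommGroup V] [DistribMulAction Y V] [Finite Y] [Finite V]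

/-- the common core of (z) -/
theorem KNat.zcore {H R : Subgroup Y} {F : Type} [Field F] [Finite F] [CharP F 2] {k : ℕ}
    {co : V → Fin k → Fin 2 → F} (K : KNat V H R F k co) (two : ∀ v : V, v + v = 0) (hRH : R ≤ H)
    {A : Subgroup Y} (hm : Mem A (Ee V A) (fx V A)) {g : Y} {N : Subgroup Y} (hNA : N ≤ A)
    (hNR : MulAut.conj g⁻¹ • N ≤ R) {X : AddSubgroup V} (hX : ∀ n ∈ N, ∀ v ∈ X, n • v = v)
    (hS : ∀ w, w ∉ Ee V A → ∀ s ∈ A, s • w + w ∈ X → s ∈ N)
    (hcard : ∀ w, w ∉ Ee V A → Nat.card F ≤ Nat.card {s : Y // s ∈ A ∧ s • w + w ∈ X})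
    (hfx : ∀ v ∈ fx V R, g • v ∈ Ee V A) (hW : ¬ ∀ v ∈ WW V H R, g • v ∈ Ee V A) :
    Nat.card N ≤ Nat.card F := by
  obtain ⟨j, v₀, hv₀, hE, hline⟩ := K.exists_off two hRH (g⁻¹ • Ee V A)
    (fun v hv => by rw [mem_smul_as, inv_inv]; exact hfx v hv)
    (fun h1 => hW fun v hv => by
      have h3 := h1 hv
      rwa [mem_smul_as, inv_inv] at h3)
  rw [mem_smul_as, inv_inv] at hE
  set w := g • v₀ with hw
  have hgs : ∀ s : Y, (g * s * g⁻¹) • w = g • s • v₀ := fun s => by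
    rw [hw, mul_smul, mul_smul, inv_smul_smul]
  have hmem : ∀ {b : Y}, b ∈ MulAut.conj g⁻¹ • N ↔ g * b * g⁻¹ ∈ N := by
    intro b
    rw [mem_conj, inv_inv]
  rw [← conj_card g⁻¹ N]
  refine K.card_le' hRH (A := MulAut.conj g⁻¹ • N) hNR (((Mem.elAb hm).mono hNA).conj g⁻¹)
    (S := {s | g * s * g⁻¹ ∈ A ∧ (g * s * g⁻¹) • w + w ∈ X}) (fun s hs => hmem.2 (hS w hE _ hs.1 hs.2)) ?_
    (PP_le_WW j hv₀) (fun i hi => K.pp_supp hv₀ hi) hline ?_ ?_
  · refine (hcard w hE).trans ?_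
    have hback : ∀ s : Y, g * (g⁻¹ * s * g) * g⁻¹ = s := fun s => by group
    refine Nat.card_le_card_of_injective (fun s : {s : Y // s ∈ A ∧ s • w + w ∈ X} =>
      (⟨g⁻¹ * s * g, by
        rw [Set.mem_ofPred_eq, hback]
        exact s.2⟩ : {s | g * s * g⁻¹ ∈ A ∧ (g * s * g⁻¹) • w + w ∈ X})) ?_
    intro s s' h1
    have h3 : g⁻¹ * (s : Y) * g = g⁻¹ * s' * g := congrArg Subtype.val h1
    exact Subtype.ext (mul_left_cancel (mul_right_cancel h3))
  · intro a ha haj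
    have h1 := K.pp_fix two (hRH (hNR ha)) haj hv₀
    have h3 : g * a * g⁻¹ = 1 := by
      apply hm.inj w hE _ (hNA (hmem.1 ha))
      rw [hgs, h1, ← hw, two]
      exact zero_mem _
    have h4 : a = g⁻¹ * (g * a * g⁻¹) * g := by group
    rw [h4, h3]
    group
  · intro b hb s hs
    have h1 := hX _ (hmem.1 hb) _ hs.2
    have hc := hm.comm _ (hNA (hmem.1 hb)) _ hs.1
    rw [smul_add, ← mul_smul, hc, mul_smul, hgs, hgs] at h1
    -- `s' b' w + b' w = s' w + w`
    have e : (g * s * g⁻¹) • g • b • v₀ = g • s • b • v₀ := by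
      rw [mul_smul, mul_smul, inv_smul_smul]
    rw [e, hw, ← smul_add, ← smul_add, smul_left_cancel_iff] at h1
    rw [smul_add]
    have h3 : s • b • v₀ = s • v₀ + v₀ + b • v₀ := by
      rw [← h1, add_assoc, two, add_zero]
    rw [h3]
    have e2 : s • v₀ + v₀ + b • v₀ + s • v₀ = (s • v₀ + s • v₀) + (b • v₀ + v₀) := by abel
    rw [e2, two, zero_add]

namespace TwoN

variable {U : Set (Subgroup Y)} {T : Sylow 2 Y} {M H H' R : Subgroup Y} {F : Type} [Field F] [Finite F] [CharP F 2]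
  {k : ℕ} {co co' : V → Fin k → Fin 2 → F} {t : Y} (h : TwoN V U T M H H' R F k co co' t)
include h

variable {A : Subgroup Y} (hA : A ∈ U) (hAH : A ≤ H) {I : Set (Fin k)} (hI : I.Nonempty) (hO : Opp V H R co A I)
  (hE : WW V H' R ≤ Ee V A)
include hA hAH hI hO hE

/-- **(z), second half** : `⟨W^H'⟩ ≤ E_A` -/
theorem z_two : ∀ x ∈ H', ∀ v ∈ WW V H R, x • v ∈ Ee V A := by
  intro g hg
  by_contra hW
  have hAM := hO.not_le h.K h.amb h.a hAH hI
  have hm := h.amb.cls.mem A hA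
  have hb : ∀ v ∈ WW V H R, v ∈ WW V H' R → ∀ i, co v i 1 = 0 := fun v hv hv' i => h.inf_le hv hv' i
  obtain ⟨w, hw⟩ := hm.ne
  have hSK := fun w hw => h.e_SK hb hA hAH hAM hO hE (w := w) hw
  have hcd := fun w hw => (h.e_card hb hA hAH hAM hO hE (w := w) hw hI).1
  have hc2 : 2 ≤ Nat.card F := Finite.one_lt_card
  have h1 := h.K.zcore h.amb.two h.a.RH hm (g := g) (N := A ⊓ QQ H R ⊓ QQ H' R)
    (X := WW V H R ⊔ WW V H' R ⊔ fx V A) (inf_le_left.trans inf_le_left) (by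
      intro x hx
      rw [mem_conj, inv_inv] at hx
      have h3 := conj_mem_QQ (H'.inv_mem hg) hx.2
      have e : g⁻¹ * (g * x * g⁻¹) * g⁻¹⁻¹ = x := by group
      rw [e] at h3
      exact QQ_le h3) (by
      intro n hn v hv
      obtain ⟨z, hz, f, hf, rfl⟩ := AddSubgroup.mem_sup.1 hv
      obtain ⟨x, hx, y, hy, rfl⟩ := AddSubgroup.mem_sup.1 hz
      rw [smul_add, smul_add, Amal.QQ_fix h.a h.amb hn.1.2 hx, Amal.QQ_fix h.a' h.amb hn.2 hy, hf n hn.1.1])
    (fun w hw s hs h1 => ⟨⟨hs, (hSK w hw s hs h1).1⟩, (hSK w hw s hs h1).2⟩)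
    (fun w hw => by
      refine le_trans ?_ (hcd w hw)
      nlinarith)
    (fun v hv => hE (smul_mem_WW hg (fx_le_WW hv))) hW
  have h3 : Nat.card {s : Y // s ∈ A ∧ s • w + w ∈ WW V H R ⊔ WW V H' R ⊔ fx V A} ≤
      Nat.card ↥(A ⊓ QQ H R ⊓ QQ H' R) := by
    apply Nat.card_le_card_of_injective
      (fun s : {s : Y // s ∈ A ∧ s • w + w ∈ WW V H R ⊔ WW V H' R ⊔ fx V A} =>
        (⟨s, ⟨s.2.1, (hSK w hw s s.2.1 s.2.2).1⟩, (hSK w hw s s.2.1 s.2.2).2⟩ : ↥(A ⊓ QQ H R ⊓ QQ H' R)))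
    intro s r hsr
    exact Subtype.ext (congrArg (fun z : ↥(A ⊓ QQ H R ⊓ QQ H' R) => (z : Y)) hsr)
  have h4 := hcd w hw
  nlinarith

/-- **(z), first half** : `⟨W'^H⟩ ≤ E_A` -/
theorem z_one : ∀ x ∈ H, ∀ v ∈ WW V H' R, x • v ∈ Ee V A := by
  intro g hg
  by_contra hW
  have hAM := hO.not_le h.K h.amb h.a hAH hI
  have hm := h.amb.cls.mem A hA
  have hWE : WW V H R ≤ Ee V A := h.a.WW_le_Ee h.amb h.we hA hAH
  have hb : ∀ v ∈ WW V H R, v ∈ WW V H' R → ∀ i, co v i 1 = 0 := fun v hv hv' i => h.inf_le hv hv' i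
  obtain ⟨w, hw⟩ := hm.ne
  have hc2 : 2 ≤ Nat.card F := Finite.one_lt_card
  have hcA := (h.e_card hb hA hAH hAM hO hE hw hI).2
  have hS : ∀ w, w ∉ Ee V A → ∀ s ∈ A, s • w + w ∈ WW V H R ⊔ fx V A → s ∈ A ⊓ QQ H R := by
    intro w hw s hs h1
    obtain ⟨x, hx, f, hf, hxf⟩ := AddSubgroup.mem_sup.1 h1
    refine ⟨hs, mem_Q_of_shift h.K h.amb h.a h.we hA hAH hw hx hs ?_⟩
    rw [← hxf]
    have e : x + f + x = (x + x) + f := by abel
    rw [e, h.amb.two, zero_add]
    exact hf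
  -- `|S_W| |A ⊓ Q| = |A|`
  have hcS : ∀ w, w ∉ Ee V A →
      Nat.card {s : Y // s ∈ A ∧ s • w + w ∈ WW V H R ⊔ fx V A} * Nat.card ↥(A ⊓ QQ H R) = Nat.card A := by
    intro w hw
    have h1 := card_SX h.amb.two hm hw (X := WW V H R ⊔ fx V A) le_sup_right (sup_le hWE hm.FE)
    have h3 := card_sup_as (WW V H R) (fx V A)
    have h4 := h.a.exact' h.amb h.we hA hAH
    rw [h1] at h3
    have h5 : 0 < Nat.card ↥(fx V A) := Nat.card_pos
    have h6 : 0 < Nat.card ↥(WW V H R ⊓ fx V A) := Nat.card_pos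
    apply Nat.eq_of_mul_eq_mul_right (Nat.mul_pos h5 h6)
    calc _ = Nat.card ↥(fx V A) * Nat.card {s : Y // s ∈ A ∧ s • w + w ∈ WW V H R ⊔ fx V A} *
          Nat.card ↥(WW V H R ⊓ fx V A) * Nat.card ↥(A ⊓ QQ H R) := by ring
      _ = Nat.card ↥(WW V H R) * Nat.card ↥(A ⊓ QQ H R) * Nat.card ↥(fx V A) := by rw [h3]; ring
      _ = _ := by rw [h4]; ring
  have hcF : ∀ w, w ∉ Ee V A → Nat.card F ≤ Nat.card {s : Y // s ∈ A ∧ s • w + w ∈ WW V H R ⊔ fx V A} := by
    intro w hw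
    have h1 := hcS w hw
    have h3 := h.opp_card hA hAH hO
    have h4 := card_le_fun (F := F) hI
    have h5 : 0 < Nat.card ↥(A ⊓ QQ H R) := Nat.card_pos
    apply Nat.le_of_mul_le_mul_right _ h5
    rw [h1]
    refine le_trans ?_ h3
    rw [mul_comm]
    exact Nat.mul_le_mul_left _ h4
  have h1 := h.K'.zcore h.amb.two h.a'.RH hm (g := g) (N := A ⊓ QQ H R)
    (X := WW V H R ⊔ fx V A) inf_le_left (by
      intro x hx
      rw [mem_conj, inv_inv] at hx
      have h3 := conj_mem_QQ (H.inv_mem hg) hx.2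
      have e : g⁻¹ * (g * x * g⁻¹) * g⁻¹⁻¹ = x := by group
      rw [e] at h3
      exact QQ_le h3) (by
      intro n hn v hv
      obtain ⟨y, hy, f, hf, rfl⟩ := AddSubgroup.mem_sup.1 hv
      rw [smul_add, Amal.QQ_fix h.a h.amb hn.2 hy, hf n hn.1]) hS hcF
    (fun v hv => hWE (smul_mem_WW hg (fx_le_WW hv))) hW
  have h3 : Nat.card {s : Y // s ∈ A ∧ s • w + w ∈ WW V H R ⊔ fx V A} ≤ Nat.card ↥(A ⊓ QQ H R) := by
    apply Nat.card_le_card_of_injective
      (fun s : {s : Y // s ∈ A ∧ s • w + w ∈ WW V H R ⊔ fx V A} =>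
        (⟨s, hS w hw s s.2.1 s.2.2⟩ : ↥(A ⊓ QQ H R)))
    intro s r hsr
    exact Subtype.ext (congrArg (fun z : ↥(A ⊓ QQ H R) => (z : Y)) hsr)
  have h4 := hcS w hw
  have h5 : Nat.card A ≤ Nat.card F ^ 2 := by
    rw [← h4, pow_two]
    exact Nat.mul_le_mul (h3.trans h1) h1
  have h6 : Nat.card F ^ 2 < Nat.card F ^ 4 := Nat.pow_lt_pow_right hc2 (by norm_num)
  omega

end TwoN

end Cfsg.Agent.Omega.NO1.TH.K

end

section


/-!
# N1, natural type with `k` factors: (L1), the case `W' ≤ E_A` for an opposite member `A` (bb OMEGA 21480 / 20646)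

* `TwoN.false_of` : impossible, given (e) `S_X ≤ K` and (z) `⟨W'^H⟩, ⟨W^H'⟩ ≤ E_A`;
* `TwoN.not_le_Ee` : `W' ≰ E_A` for every opposite member `A`.
-/

set_option autoImplicit false
set_option linter.unusedSectionVars false
set_option linter.dupNamespace false

namespace Cfsg.Agent.Omega.NO1.TH.K

open Subgroup Cfsg.Agent.Omega.NO1.AB Cfsg.Agent.Omega.FFBr Cfsg.Agent.Lib.SL2Mat
open scoped Pointwise

universe u

variable {Y : Type u} [Group Y] {V : Type u} [AddCommGroup V] [DistribMulAction Y V] [Finite Y] [Finite V]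
  {U : Set (Subgroup Y)} {T : Sylow 2 Y} {M H H' R : Subgroup Y} {t : Y} {F : Type} [Field F] [Finite F] {k : ℕ}
  {co co' : V → Fin k → Fin 2 → F}

/-- **(L1), natural type** -/
theorem TwoN.false_of (h : TwoN V U T M H H' R F k co co' t) {A : Subgroup Y} (hA : A ∈ U) (hAH : A ≤ H)
    {I : Set (Fin k)} (hI : I.Nonempty) (hO : Opp V H R co A I)
    (hS : ∀ w, w ∉ Ee V A → ∀ s ∈ A, s • w + w ∈ WW V H R ⊔ WW V H' R ⊔ fx V A → s ∈ QQ H R ∧ s ∈ QQ H' R)
    (le₁ : ∀ x ∈ H, ∀ w ∈ WW V H' R, x • w ∈ Ee V A) (le₂ : ∀ x ∈ H', ∀ w ∈ WW V H R, x • w ∈ Ee V A) :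
    False := by
  obtain rfl := h.H'_eq
  have hAM := hO.not_le h.K h.amb h.a hAH hI
  obtain ⟨b, hb, hb'⟩ := h.star hA hAH hAM
  have hBQ : ¬ A ⊓ QQ H R ≤ QQ (MulAut.conj t • H) R := fun h1 => hb' (h1 hb)
  have hE : WW V (MulAut.conj t • H) R ≤ Ee V A := fun w hw => by
    have h1 := le₁ 1 H.one_mem w hw
    rwa [one_smul] at h1
  have e1 := (Amal.e_one h.a h.a' h.amb h.we h.we' hA hAH hE).1
  obtain ⟨i, hi⟩ := hI
  obtain ⟨Δ, hΔ, d1, d2⟩ := LF.exact_of h.amb h.a' h.K' (B₁ := A ⊓ QQ H R) (inf_le_right.trans QQ_le)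
    (ElAb.mono (Mem.elAb (h.amb.cls.mem A hA)) inf_le_left) hBQ e1.le
  exact Amal.lOne h.a h.amb (lIn_of h.a h.a' h.amb h.we h.we' (LF.lfac h.amb h.a h.we h.K)
    (LF.lfac h.amb h.a' h.we' h.K') hA hAH hAM hBQ hS (LF.faith h.amb h.a h.we h.K hA hAH) le₁ le₂
    ⟨Δ, hΔ, fun b hb hbQ => d1 b ⟨hb, hbQ⟩, fun p hp r hr => by
      obtain ⟨b, hb, h1⟩ := d2 p hp r hr
      exact ⟨b, hb.1, hb.2, h1⟩⟩
    ⟨i, LF.mov_opp h.amb h.a h.we h.K hO hi⟩)

/-- **(L1), natural type: `W' ≰ E_A` for every opposite member `A`** -/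
theorem TwoN.not_le_Ee [CharP F 2] (h : TwoN V U T M H H' R F k co co' t) {A : Subgroup Y} (hA : A ∈ U) (hAH : A ≤ H)
    {I : Set (Fin k)} (hI : I.Nonempty) (hO : Opp V H R co A I) : ¬ WW V H' R ≤ Ee V A := by
  intro hE
  have hAM := hO.not_le h.K h.amb h.a hAH hI
  exact h.false_of hA hAH hI hO
    (fun w hw => h.e_SK (fun v hv hv' i => h.inf_le hv hv' i) hA hAH hAM hO hE hw)
    (h.z_one hA hAH hI hO hE) (h.z_two hA hAH hI hO hE)

end Cfsg.Agent.Omega.NO1.TH.K

end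

section


/-!
# N1, natural type, `k ≥ 2`, case (d) of bb OMEGA 20646: (L2) (bb OMEGA 20937, helper476; 20981, helper411), part A

All members have order `|F|²` and `|V : E| = |F|`.
* `card_S`, `S_mem_Q`, `supp_one`, `card_Q`, `S_eq` : `|I(U)| = 1`, `|U ∩ Q| = |F|`, `S_W = U ∩ Q`;
* `exists_eq` : `u e + e = r x + x`, `x ∈ W - F` (PF equality);
* `TwoN.g_fix'` : (g) of #20646;
* `TwoN.not_le`, `TwoN.inf_le_fx`, `TwoN.supp'` : the outputs of (d) for every opposite member.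
-/

set_option autoImplicit false
set_option linter.unusedSectionVars false
set_option linter.dupNamespace false

namespace Cfsg.Agent.Omega.NO1.TH.K

open Subgroup Cfsg.Agent.Omega.NO1.AB Cfsg.Agent.Omega.FFBr Cfsg.Agent.Lib.SL2Mat
open Cfsg.Agent.Omega.NatPair (ap)
open scoped Pointwise

universe u

variable {Y : Type u} [Group Y] {V : Type u} [AddCommGroup V] [DistribMulAction Y V]

section one

variable [Finite Y] [Finite V] {U : Set (Subgroup Y)} {T : Sylow 2 Y} {M H R : Subgroup Y} {t : Y} {F : Type} [Field F]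
  {k : ℕ} {co : V → Fin k → Fin 2 → F}

/-- `|S_W| |A ∩ Q| = |A|` -/
theorem card_S (amb : Amb V U T M) (a : Amal U T M H R t) (we : WE V U H R) {A : Subgroup Y} (hA : A ∈ U)
    (hAH : A ≤ H) {w : V} (hw : w ∉ Ee V A) :
    Nat.card {s : Y // s ∈ A ∧ s • w + w ∈ WW V H R ⊔ fx V A} * Nat.card ↥(A ⊓ QQ H R) = Nat.card A := by
  have hm := amb.cls.mem A hA
  have h1 := card_SX amb.two hm hw (X := WW V H R ⊔ fx V A) le_sup_right
    (sup_le (Amal.WW_le_Ee a amb we hA hAH) hm.FE)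
  have h2 := card_sup_as (WW V H R) (fx V A)
  have h3 := a.exact' amb we hA hAH
  have h4 : 0 < Nat.card ↥(fx V A) := Nat.card_pos
  have h5 : 0 < Nat.card ↥(WW V H R ⊓ fx V A) := Nat.card_pos
  set S := Nat.card {s : Y // s ∈ A ∧ s • w + w ∈ WW V H R ⊔ fx V A} with hS
  have h6 : S * Nat.card ↥(WW V H R ⊓ fx V A) = Nat.card ↥(WW V H R) := by
    apply Nat.eq_of_mul_eq_mul_left h4
    calc Nat.card ↥(fx V A) * (S * Nat.card ↥(WW V H R ⊓ fx V A))
        = (Nat.card ↥(fx V A) * S) * Nat.card ↥(WW V H R ⊓ fx V A) := by ring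
      _ = Nat.card ↥(WW V H R) * Nat.card ↥(fx V A) := by rw [← h1, h2]
      _ = _ := by ring
  apply Nat.eq_of_mul_eq_mul_right h5
  calc S * Nat.card ↥(A ⊓ QQ H R) * Nat.card ↥(WW V H R ⊓ fx V A)
      = S * Nat.card ↥(WW V H R ⊓ fx V A) * Nat.card ↥(A ⊓ QQ H R) := by ring
    _ = _ := by rw [h6, h3]

theorem exists_x_of_sup (two : ∀ v : V, v + v = 0) {A : Subgroup Y} {W : AddSubgroup V} {w : V} {s : Y}
    (hs : s • w + w ∈ W ⊔ fx V A) : ∃ x ∈ W, s • w + w + x ∈ fx V A := by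
  rw [AddSubgroup.mem_sup] at hs
  obtain ⟨x, hx, f, hf, hxf⟩ := hs
  refine ⟨x, hx, ?_⟩
  rw [← hxf]
  have e : x + f + x = x + x + f := by abel
  rw [e, two, zero_add]
  exact hf

/-- `S_W ≤ Q` -/
theorem S_mem_Q (K : KNat V H R F k co) (amb : Amb V U T M) (a : Amal U T M H R t) (we : WE V U H R)
    {A : Subgroup Y} (hA : A ∈ U) (hAH : A ≤ H) {w : V} (hw : w ∉ Ee V A) {s : Y} (hs : s ∈ A)
    (h : s • w + w ∈ WW V H R ⊔ fx V A) : s ∈ QQ H R := by
  obtain ⟨x, hx, h1⟩ := exists_x_of_sup amb.two h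
  exact mem_Q_of_shift K amb a we hA hAH hw hx hs h1

theorem card_S_le (K : KNat V H R F k co) (amb : Amb V U T M) (a : Amal U T M H R t) (we : WE V U H R)
    {A : Subgroup Y} (hA : A ∈ U) (hAH : A ≤ H) {w : V} (hw : w ∉ Ee V A) :
    Nat.card {s : Y // s ∈ A ∧ s • w + w ∈ WW V H R ⊔ fx V A} ≤ Nat.card ↥(A ⊓ QQ H R) := by
  refine Nat.card_le_card_of_injective
    (fun s => (⟨s.1, s.2.1, S_mem_Q K amb a we hA hAH hw s.2.1 s.2.2⟩ : ↥(A ⊓ QQ H R))) ?_
  intro s r hsr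
  exact Subtype.ext (congrArg (fun z : ↥(A ⊓ QQ H R) => (z : Y)) hsr)

theorem card_Q_conj (x : Y) (hx : x ∈ H) (A : Subgroup Y) :
    Nat.card ↥(MulAut.conj x • A ⊓ QQ H R) = Nat.card ↥(A ⊓ QQ H R) := by
  have h1 : MulAut.conj x • QQ H R = QQ H R := conj_of_mem fun _ hq => conj_mem_QQ hx hq
  rw [← conj_card x (A ⊓ QQ H R), conj_inf, h1]

theorem conj_le_Q {x : Y} (hx : x ∈ H) {A : Subgroup Y} : MulAut.conj x • A ≤ QQ H R ↔ A ≤ QQ H R := by
  have h1 : MulAut.conj x • QQ H R = QQ H R := conj_of_mem fun _ hq => conj_mem_QQ hx hq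
  have h2 := conj_le_conj_iff (H := A) (K := QQ H R) x
  rwa [h1] at h2

/-- **`|I(U)| = 1`, `|U ∩ Q| = |F|`** for `U ≤ R` -/
theorem supp_one [Finite F] (K : KNat V H R F k co) (amb : Amb V U T M) (a : Amal U T M H R t) (we : WE V U H R)
    (hc : ∀ B ∈ U, Nat.card B = Nat.card F ^ 2) {B : Subgroup Y} (hB : B ∈ U) (hBR : B ≤ R)
    (hBQ : ¬ B ≤ QQ H R) : ∃ i, Supp V H R co B {i} ∧ Nat.card ↥(B ⊓ QQ H R) = Nat.card F := by
  obtain ⟨I, ⟨i, hi⟩, hS⟩ := exists_supp K amb a we hB hBR hBQ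
  have hBH := hBR.trans a.RH
  have h1 := member_card K amb a hBR hS
  obtain ⟨w, hw⟩ := (amb.cls.mem B hB).ne
  have h2 := card_S amb a we hB hBH hw
  have h3 := card_S_le K amb a we hB hBH hw
  set S := Nat.card {s : Y // s ∈ B ∧ s • w + w ∈ WW V H R ⊔ fx V B} with hS'
  have hq : 0 < Nat.card ↥(B ⊓ QQ H R) := Nat.card_pos
  have hf : 1 < Nat.card F := Finite.one_lt_card
  rw [hc B hB] at h1 h2
  have h4 : S = Nat.card (I → F) := by
    apply Nat.eq_of_mul_eq_mul_right hq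
    rw [h2, h1, mul_comm]
  -- `|I → F| = |F| ^ |I|`
  have h5 : Nat.card (I → F) = Nat.card F ^ Nat.card I := by
    rw [Nat.card_fun]
  have h6 : 1 ≤ Nat.card I := by
    have : Nonempty I := ⟨⟨i, hi⟩⟩
    exact Nat.card_pos
  have h7 : Nat.card F ≤ Nat.card (I → F) := by
    rw [h5]
    exact Nat.le_self_pow (by omega) _
  have h8 : Nat.card ↥(B ⊓ QQ H R) ≤ Nat.card F := by
    by_contra hcon
    push Not at hcon
    have h9 : Nat.card F * Nat.card F < Nat.card ↥(B ⊓ QQ H R) * Nat.card (I → F) :=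
      Nat.mul_lt_mul_of_lt_of_le hcon h7 (by omega)
    rw [← h1, pow_two] at h9
    exact lt_irrefl _ h9
  have h9 : Nat.card (I → F) = Nat.card F := by
    rw [← h4] at h7 ⊢
    exact le_antisymm (h3.trans h8) h7
  have h10 : Nat.card ↥(B ⊓ QQ H R) = Nat.card F := by
    rw [h9, pow_two] at h1
    exact (Nat.eq_of_mul_eq_mul_right (by omega) h1).symm
  have h11 : Nat.card I = 1 := by
    rw [h5] at h9
    have h12 : Nat.card F ^ Nat.card I = Nat.card F ^ 1 := by rw [h9, pow_one]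
    exact Nat.pow_right_injective hf h12
  have h12 : I = {i} := by
    rw [Nat.card_eq_one_iff_unique] at h11
    obtain ⟨hsub, _⟩ := h11
    ext j
    constructor
    · intro hj
      exact congrArg Subtype.val (Subsingleton.elim (⟨j, hj⟩ : I) ⟨i, hi⟩)
    · rintro rfl
      exact hi
  rw [h12] at hS
  exact ⟨i, hS, h10⟩

theorem card_Q [Finite F] (K : KNat V H R F k co) (amb : Amb V U T M) (a : Amal U T M H R t) (we : WE V U H R)
    (hc : ∀ B ∈ U, Nat.card B = Nat.card F ^ 2) {A : Subgroup Y} (hA : A ∈ U) (hAH : A ≤ H)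
    (hAQ : ¬ A ≤ QQ H R) : Nat.card ↥(A ⊓ QQ H R) = Nat.card F := by
  obtain ⟨x, hx, hxU, hxR⟩ := Amal.exists_conj a amb hA hAH
  obtain ⟨i, _, h1⟩ := supp_one K amb a we hc hxU hxR fun h => hAQ ((conj_le_Q hx).1 h)
  rwa [card_Q_conj x hx] at h1

/-- **`S_W = A ∩ Q`** -/
theorem S_eq [Finite F] (K : KNat V H R F k co) (amb : Amb V U T M) (a : Amal U T M H R t) (we : WE V U H R)
    (hc : ∀ B ∈ U, Nat.card B = Nat.card F ^ 2) {A : Subgroup Y} (hA : A ∈ U) (hAH : A ≤ H)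
    (hAQ : ¬ A ≤ QQ H R) {w : V} (hw : w ∉ Ee V A) {s : Y} (hs : s ∈ A) (hsQ : s ∈ QQ H R) :
    ∃ x ∈ WW V H R, s • w + w + x ∈ fx V A := by
  apply exists_x_of_sup amb.two
  have h1 := card_Q K amb a we hc hA hAH hAQ
  have h2 := card_S amb a we hA hAH hw
  have hf : 0 < Nat.card F := Nat.card_pos
  have h3 : Nat.card {s : Y // s ∈ A ∧ s • w + w ∈ WW V H R ⊔ fx V A} = Nat.card ↥(A ⊓ QQ H R) := by
    rw [h1]
    rw [h1, hc A hA, pow_two] at h2
    exact Nat.eq_of_mul_eq_mul_right hf h2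
  let f : {s : Y // s ∈ A ∧ s • w + w ∈ WW V H R ⊔ fx V A} → ↥(A ⊓ QQ H R) :=
    fun s => ⟨s.1, s.2.1, S_mem_Q K amb a we hA hAH hw s.2.1 s.2.2⟩
  have hf1 : Function.Injective f := by
    intro s r hsr
    exact Subtype.ext (congrArg (fun z : ↥(A ⊓ QQ H R) => (z : Y)) hsr)
  have hf2 : Function.Bijective f := by
    rw [Nat.bijective_iff_injective_and_card]
    exact ⟨hf1, h3⟩
  obtain ⟨r, hr⟩ := hf2.2 ⟨s, hs, hsQ⟩
  have h4 : r.1 = s := congrArg Subtype.val hr
  rw [← h4]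
  exact r.2.2

/-- PF equality: `[E, A] = [x, A]` for `x ∈ E - F` -/
theorem exists_eq (two : ∀ v : V, v + v = 0) {A : Subgroup Y} {E F₀ : AddSubgroup V} (hm : Mem A E F₀)
    (hc : Nat.card A = E.index ^ 2) {x : V} (hx : x ∈ E) (hxF : x ∉ F₀) {u : Y} (hu : u ∈ A) {e : V} (he : e ∈ E) :
    ∃ r ∈ A, u • e + e = r • x + x := by
  obtain ⟨w, hw⟩ := hm.ne
  obtain ⟨s, hs, hsx⟩ := hm.surj w hw x hx
  have hs1 : s ≠ 1 := by
    rintro rfl
    rw [one_smul, two, zero_add] at hsx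
    exact hxF hsx
  obtain ⟨e', he', h1⟩ := B0.pf_eq hm two hc hs hs1 hu he
  obtain ⟨r, hr, hre⟩ := hm.surj w hw e' he'
  refine ⟨r, hr, ?_⟩
  rw [h1]
  exact (s_symm two hm hs hr hsx hre).symm

/-- `[E, A] ≤ W` for active members -/
theorem comm_mem_W (amb : Amb V U T M) (a : Amal U T M H R t) (we : WE V U H R)
    (hc : ∀ B ∈ U, Nat.card B = (Ee V B).index ^ 2) {A : Subgroup Y} (hA : A ∈ U) (hAH : A ≤ H)
    (hAQ : ¬ A ≤ QQ H R) {u : Y} (hu : u ∈ A) {e : V} (he : e ∈ Ee V A) : u • e + e ∈ WW V H R := by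
  have hm := amb.cls.mem A hA
  have h1 : ∃ x ∈ WW V H R, x ∉ fx V A := by
    by_contra hcon
    push Not at hcon
    apply hAQ
    intro b hb
    have h2 : b ∈ A ⊓ CW V H R := ⟨hb, fun w hw => hcon w hw b hb⟩
    rw [Amal.inf_CW' a amb hA hAH] at h2
    exact h2.2
  obtain ⟨x, hx, hxF⟩ := h1
  obtain ⟨r, hr, h2⟩ := exists_eq amb.two hm (hc A hA) (Amal.WW_le_Ee a amb we hA hAH hx) hxF hu he
  rw [h2]
  exact add_mem (smul_mem_WW (hAH hr) hx) hx

end one

end Cfsg.Agent.Omega.NO1.TH.K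

end

section


/-!
# N1, natural type, `k` factors: (g) and (d) of bb OMEGA 20646 (helper247)

`A ≤ H` a fully opposite member, `W' = WW V H' R`, `Q = QQ H R`.
* `TwoN.g_fix'` : `S_W` centralises `W' ∩ E_A`;
* `TwoN.d_card` : `W' ≰ E_A` implies `|A ∩ Q| ≤ |F|`;
* `TwoN.d_all` : then `|B| = |F|²`, `|V : E_B| = |F|` for all members;
* `TwoN.not_le`, `TwoN.inf_fx`, `TwoN.supp'`, `TwoN.d_top` : the outputs of (d) for all opposite members.
-/

set_option autoImplicit false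
set_option linter.unusedSectionVars false
set_option linter.dupNamespace false

namespace Cfsg.Agent.Omega.NO1.TH.K

open Subgroup Cfsg.Agent.Omega.NO1.AB Cfsg.Agent.Omega.FFBr Cfsg.Agent.Lib.SL2Mat
open Cfsg.Agent.Omega.NatPair (ap)
open scoped Pointwise

universe u

variable {Y : Type u} [Group Y] {V : Type u} [AddCommGroup V] [DistribMulAction Y V]

namespace TwoN

variable [Finite Y] [Finite V] {U : Set (Subgroup Y)} {T : Sylow 2 Y} {M H H' R : Subgroup Y} {F : Type} [Field F]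
  [Finite F] {k : ℕ} {co co' : V → Fin k → Fin 2 → F} {t : Y} (h : TwoN V U T M H H' R F k co co' t)
include h

/-- **(g)** of #20646 -/
theorem g_fix' {A : Subgroup Y} (hA : A ∈ U) (hAH : A ≤ H) {I : Set (Fin k)} (hO : Opp V H R co A I) {w : V}
    (hw : w ∉ Ee V A) {x : V} (hx : x ∈ WW V H R) {s : Y} (hs : s ∈ A) (hsx : s • w + w + x ∈ fx V A) {y : V}
    (hy : y ∈ WW V H' R) (hyE : y ∈ Ee V A) : s • y = y := by
  have hm := h.amb.cls.mem A hA
  obtain ⟨r, hr, hry⟩ := hm.surj w hw y hyE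
  -- `[x', r] = [y, s_{x'}] ∈ W ∩ W' ∩ F_A` has coordinates `0`
  have key : ∀ x' ∈ WW V H R, ∀ s' ∈ A, s' • w + w + x' ∈ fx V A → co (r • x' + x') = 0 := by
    intro x' hx' s' hs' hsx'
    have h1 := s_symm h.two hm hs' hr hsx' hry
    have hsQ := mem_Q_of_shift h.K h.amb h.a h.we hA hAH hw hx' hs' hsx'
    have hW : r • x' + x' ∈ WW V H R := add_mem (smul_mem_WW (hAH hr) hx') hx'
    have hW' : r • x' + x' ∈ WW V H' R := by
      rw [h1]
      exact add_mem (smul_mem_WW (h.a'.RH (QQ_le hsQ)) hy) hy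
    have hF : r • x' + x' ∈ fx V A := by
      rw [h1]
      exact hm.EB s' hs' y hyE
    funext i
    by_cases hi : i ∈ I
    · exact hO.inf hW hF (fun j => h.inf_le hW hW' j) hi
    · exact hO.comm h.K hAH h.two hx' hr hi
  have hrW : ∀ x' ∈ WW V H R, co (r • x') = co x' := by
    intro x' hx'
    obtain ⟨s', hs', hsx'⟩ := hm.surj w hw x' (Amal.WW_le_Ee h.a h.amb h.we hA hAH hx')
    exact h.K.co_eq_of_add h.two (smul_mem_WW (hAH hr) hx') hx' (key x' hx' s' hs' hsx')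
  have h1 := h.K.trivH r (hAH hr) hrW x hx
  have h2 := s_symm h.two hm hs hr hsx hry
  rw [h1, h.two] at h2
  exact ((HE.add_eq_zero' h.two).1 h2.symm)

/-- an opposite member is active -/
theorem opp_not_Q {A : Subgroup Y} (hAM : ¬ A ≤ M) : ¬ A ≤ QQ H R :=
  fun h1 => hAM (h1.trans (QQ_le.trans (h.a.RT.trans h.amb.TM)))

/-- `|S_W| ≥ |F|` for active members -/
theorem card_S_ge {A : Subgroup Y} (hA : A ∈ U) (hAH : A ≤ H) (hAQ : ¬ A ≤ QQ H R) {w : V} (hw : w ∉ Ee V A) :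
    Nat.card F ≤ Nat.card {s : Y // s ∈ A ∧ s • w + w ∈ WW V H R ⊔ fx V A} := by
  obtain ⟨x, hx, hxU, hxR⟩ := Amal.exists_conj h.a h.amb hA hAH
  have hxQ : ¬ MulAut.conj x • A ≤ QQ H R := fun h1 => hAQ ((conj_le_Q hx).1 h1)
  obtain ⟨I, ⟨i, hi⟩, hS⟩ := exists_supp h.K h.amb h.a h.we hxU hxR hxQ
  have h1 := member_card h.K h.amb h.a hxR hS
  rw [card_Q_conj x hx, conj_card] at h1
  have h2 := card_S h.amb h.a h.we hA hAH hw
  have hq : 0 < Nat.card ↥(A ⊓ QQ H R) := Nat.card_pos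
  have h3 : Nat.card {s : Y // s ∈ A ∧ s • w + w ∈ WW V H R ⊔ fx V A} = Nat.card (I → F) := by
    apply Nat.eq_of_mul_eq_mul_right hq
    rw [h2, h1, mul_comm]
  rw [h3, Nat.card_fun]
  have h6 : 1 ≤ Nat.card I := by
    have : Nonempty I := ⟨⟨i, hi⟩⟩
    exact Nat.card_pos
  exact Nat.le_self_pow (by omega) _

/-- **(d), first part**: `|A ∩ Q| ≤ |F|` -/
theorem d_card {A : Subgroup Y} (hA : A ∈ U) (hAH : A ≤ H) (hAM : ¬ A ≤ M) {I : Set (Fin k)}
    (hO : Opp V H R co A I) (hW : ¬ WW V H' R ≤ Ee V A) : Nat.card ↥(A ⊓ QQ H R) ≤ Nat.card F := by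
  have hm := h.amb.cls.mem A hA
  have hI : ∃ i : Fin k, True := by
    by_contra hcon
    push Not at hcon
    apply h.opp_not_Q hAM
    intro b hb
    have h2 : b ∈ A ⊓ CW V H R := ⟨hb, fun w hw => by
      apply h.K.trivH b (hAH hb) _ w hw
      intro w _
      funext i
      exact (hcon i).elim⟩
    rw [Amal.inf_CW' h.a h.amb hA hAH] at h2
    exact h2.2
  obtain ⟨i₀, _⟩ := hI
  have := h.K.charP h.two i₀
  have hfx : fx V R ≤ Ee V A := (fx_le_WW (H := H)).trans (Amal.WW_le_Ee h.a h.amb h.we hA hAH)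
  obtain ⟨j, v₀, hv₀, hvE, hline⟩ := h.K'.exists_off h.two h.a'.RH (Ee V A) hfx hW
  have hv₀W : v₀ ∈ WW V H' R := PP_le_WW j hv₀
  have hQR : A ⊓ QQ H R ≤ R := inf_le_right.trans QQ_le
  have hel : ElAb (A ⊓ QQ H R) := (Mem.elAb hm).mono inf_le_left
  refine h.K'.card_le' h.a'.RH hQR hel (S := {s | s ∈ A ∧ s • v₀ + v₀ ∈ WW V H R ⊔ fx V A}) ?_ ?_ hv₀W
    (fun i hij => h.K'.pp_supp hv₀ hij) hline ?_ ?_
  · rintro s ⟨hs, hs1⟩
    exact ⟨hs, S_mem_Q h.K h.amb h.a h.we hA hAH hvE hs hs1⟩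
  · exact h.card_S_ge hA hAH (h.opp_not_Q hAM) hvE
  · intro a ha hfix
    have h1 := h.K'.pp_fix h.two (h.a'.RH (hQR ha)) hfix hv₀
    apply hm.inj v₀ hvE a ha.1
    rw [h1, h.two]
    exact zero_mem _
  · rintro b hb s ⟨hs, hs1⟩
    obtain ⟨x, hx, hsx⟩ := exists_x_of_sup h.two hs1
    exact h.g_fix' hA hAH hO hvE hx hs hsx (add_mem (smul_mem_WW (h.a'.RH (hQR hb)) hv₀W) hv₀W) (hm.VB b hb.1 v₀)

/-- `|A ∩ Q| |W' ∩ E_A| ≤ |W'|` when `A ∩ Q` centralises `W' ∩ E_A` and `W' ≰ E_A` -/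
theorem d_noOver {A : Subgroup Y} (hA : A ∈ U) (hW : ¬ WW V H' R ≤ Ee V A)
    (hfix : ∀ y ∈ WW V H' R, y ∈ Ee V A → y ∈ fx V (A ⊓ QQ H R)) :
    A ⊓ QQ H R ⊓ QQ H' R = ⊥ ∧ WW V H' R ⊓ Ee V A ≤ fx V (A ⊓ QQ H R) ⊓ WW V H' R ∧
      Nat.card ↥(A ⊓ QQ H R) * Nat.card ↥(fx V (A ⊓ QQ H R) ⊓ WW V H' R) ≤ Nat.card ↥(WW V H' R) := by
  have hm := h.amb.cls.mem A hA
  have h1 : A ⊓ QQ H R ⊓ QQ H' R = ⊥ := by
    rw [eq_bot_iff]
    rintro b ⟨⟨hb, -⟩, hbQ'⟩
    rw [mem_bot]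
    obtain ⟨v, hv, hvE⟩ := SetLike.not_le_iff_exists.1 hW
    apply hm.inj v hvE b hb
    rw [Amal.QQ_fix h.a' h.amb hbQ' hv, h.two]
    exact zero_mem _
  refine ⟨h1, fun v hv => ⟨hfix v hv.1 hv.2, hv.1⟩, ?_⟩
  have h2 := h.K'.noOver (A ⊓ QQ H R) (inf_le_right.trans QQ_le) ((Mem.elAb hm).mono inf_le_left)
  rw [h1, card_bot, one_mul] at h2
  exact h2

/-- `|W'| ≤ |V : E| |W' ∩ E|` -/
theorem card_W'_le (A : Subgroup Y) :
    Nat.card ↥(WW V H' R) * Nat.card ↥(Ee V A) = Nat.card ↥(WW V H' R ⊔ Ee V A) * Nat.card ↥(WW V H' R ⊓ Ee V A) :=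
  (card_sup_as _ _).symm

/-- **(d)**: `|B| = |F|²`, `|V : E_B| = |F|` for all members -/
theorem d_all {A : Subgroup Y} (hA : A ∈ U) (hAH : A ≤ H) (hAM : ¬ A ≤ M) {I : Set (Fin k)}
    (hO : Opp V H R co A I) (hW : ¬ WW V H' R ≤ Ee V A) :
    ∀ B ∈ U, Nat.card B = Nat.card F ^ 2 ∧ (Ee V B).index = Nat.card F := by
  have hm := h.amb.cls.mem A hA
  obtain ⟨v, hv, hvE⟩ := SetLike.not_le_iff_exists.1 hW
  have hAQ := h.opp_not_Q hAM
  have h1 := h.d_card hA hAH hAM hO hW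
  have h2 := h.card_S_ge hA hAH hAQ hvE
  have h3 := card_S_le h.K h.amb h.a h.we hA hAH hvE
  have h4 := card_S h.amb h.a h.we hA hAH hvE
  have h5 : Nat.card ↥(A ⊓ QQ H R) = Nat.card F := le_antisymm h1 (h2.trans h3)
  have h6 : Nat.card {s : Y // s ∈ A ∧ s • v + v ∈ WW V H R ⊔ fx V A} = Nat.card F :=
    le_antisymm (h3.trans h1) h2
  rw [h5, h6, ← pow_two] at h4
  have hcard : ∀ B ∈ U, Nat.card B = Nat.card F ^ 2 := by
    intro B hB
    obtain ⟨y, rfl⟩ := h.amb.cls.eq A hA B hB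
    rw [conj_card, h4]
  -- `A ∩ Q = S_W`
  have hfix : ∀ y ∈ WW V H' R, y ∈ Ee V A → y ∈ fx V (A ⊓ QQ H R) := by
    intro y hy hyE b hb
    obtain ⟨x, hx, hbx⟩ := S_eq h.K h.amb h.a h.we hcard hA hAH hAQ hvE hb.1 hb.2
    exact h.g_fix' hA hAH hO hvE hx hb.1 hbx hy hyE
  obtain ⟨h7, h8, h9⟩ := h.d_noOver hA hW hfix
  have h10 : Nat.card ↥(WW V H' R ⊓ Ee V A) ≤ Nat.card ↥(fx V (A ⊓ QQ H R) ⊓ WW V H' R) :=
    Nat.card_le_card_of_injective _ (AddSubgroup.inclusion_injective h8)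
  have h11 : Nat.card ↥(WW V H' R) ≤ (Ee V A).index * Nat.card ↥(WW V H' R ⊓ Ee V A) := by
    have h12 := h.card_W'_le A
    have h13 : Nat.card ↥(WW V H' R ⊔ Ee V A) ≤ Nat.card ↥(Ee V A) * (Ee V A).index := by
      rw [AddSubgroup.card_mul_index]
      exact Nat.card_le_card_of_injective _ (Subtype.val_injective)
    have h14 : 0 < Nat.card ↥(Ee V A) := Nat.card_pos
    apply Nat.le_of_mul_le_mul_right _ h14
    rw [h12]
    calc _ ≤ Nat.card ↥(Ee V A) * (Ee V A).index * Nat.card ↥(WW V H' R ⊓ Ee V A) := Nat.mul_le_mul_right _ h13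
      _ = _ := by ring
  have h12 : Nat.card F ≤ (Ee V A).index := by
    have h13 : 0 < Nat.card ↥(WW V H' R ⊓ Ee V A) := Nat.card_pos
    rw [h5] at h9
    apply Nat.le_of_mul_le_mul_right _ h13
    exact ((Nat.mul_le_mul_left _ h10).trans h9).trans h11
  have h13 : (Ee V A).index ≤ Nat.card F := by
    have h14 := B0.pf_le hm h.two (Mem.ne_bot hm)
    rw [hcard A hA] at h14
    exact (Nat.pow_le_pow_iff_left two_ne_zero).1 h14
  intro B hB
  refine ⟨hcard B hB, ?_⟩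
  rw [← le_antisymm h13 h12]
  have h15 := AddSubgroup.card_mul_index (Ee V A)
  have h16 := AddSubgroup.card_mul_index (Ee V B)
  have h17 : Nat.card ↥(Ee V B) = Nat.card ↥(Ee V A) := by
    obtain ⟨y, rfl⟩ := h.amb.cls.eq A hA B hB
    rw [Ee_conj, card_smul_as]
  rw [h17, ← h15] at h16
  exact Nat.eq_of_mul_eq_mul_left Nat.card_pos h16

section outputs

variable (hc : ∀ B ∈ U, Nat.card B = Nat.card F ^ 2 ∧ (Ee V B).index = Nat.card F)
include hc

/-- `W' ∩ E_A ≤ C(A ∩ Q)` -/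
theorem d_fix {A : Subgroup Y} (hA : A ∈ U) (hAH : A ≤ H) (hAM : ¬ A ≤ M) {I : Set (Fin k)}
    (hO : Opp V H R co A I) {y : V} (hy : y ∈ WW V H' R) (hyE : y ∈ Ee V A) : y ∈ fx V (A ⊓ QQ H R) := by
  obtain ⟨w, hw⟩ := (h.amb.cls.mem A hA).ne
  intro b hb
  obtain ⟨x, hx, hbx⟩ := S_eq h.K h.amb h.a h.we (fun B hB => (hc B hB).1) hA hAH (h.opp_not_Q hAM) hw hb.1 hb.2
  exact h.g_fix' hA hAH hO hw hx hb.1 hbx hy hyE

/-- **`W' ≰ E_A`** for every opposite member -/
theorem d_not_le {A : Subgroup Y} (hA : A ∈ U) (hAH : A ≤ H) (hAM : ¬ A ≤ M) {I : Set (Fin k)}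
    (hO : Opp V H R co A I) : ¬ WW V H' R ≤ Ee V A := by
  intro hW
  obtain ⟨b, hb, hbQ'⟩ := h.star hA hAH hAM
  apply hbQ'
  rw [Amal.mem_QQ_iff h.a' h.amb (QQ_le hb.2)]
  intro y hy
  exact h.d_fix hc hA hAH hAM hO hy (hW hy) b hb

/-- **`V = W' + E_A`** -/
theorem d_top {A : Subgroup Y} (hA : A ∈ U) (hAH : A ≤ H) (hAM : ¬ A ≤ M) {I : Set (Fin k)}
    (hO : Opp V H R co A I) : WW V H' R ⊔ Ee V A = ⊤ ∧
      Nat.card ↥(WW V H' R) ≤ Nat.card ↥(A ⊓ QQ H R) * Nat.card ↥(fx V (A ⊓ QQ H R) ⊓ WW V H' R) := by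
  have hW := h.d_not_le hc hA hAH hAM hO
  have hAQ := h.opp_not_Q hAM
  have h5 := card_Q h.K h.amb h.a h.we (fun B hB => (hc B hB).1) hA hAH hAQ
  obtain ⟨h7, h8, h9⟩ := h.d_noOver hA hW fun y hy hyE => h.d_fix hc hA hAH hAM hO hy hyE
  have h10 : Nat.card ↥(WW V H' R ⊓ Ee V A) ≤ Nat.card ↥(fx V (A ⊓ QQ H R) ⊓ WW V H' R) :=
    Nat.card_le_card_of_injective _ (AddSubgroup.inclusion_injective h8)
  have h12 := h.card_W'_le A
  have h14 : 0 < Nat.card ↥(Ee V A) := Nat.card_pos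
  have h15 : 0 < Nat.card ↥(WW V H' R ⊓ Ee V A) := Nat.card_pos
  have h16 := AddSubgroup.card_mul_index (Ee V A)
  rw [(hc A hA).2] at h16
  rw [h5] at h9 ⊢
  -- `|W' + E| ≥ |E| |F|`
  have h17 : Nat.card V ≤ Nat.card ↥(WW V H' R ⊔ Ee V A) := by
    apply Nat.le_of_mul_le_mul_right _ h15
    rw [← h12, ← h16]
    calc Nat.card ↥(Ee V A) * Nat.card F * Nat.card ↥(WW V H' R ⊓ Ee V A)
        = Nat.card F * Nat.card ↥(WW V H' R ⊓ Ee V A) * Nat.card ↥(Ee V A) := by ring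
      _ ≤ _ := Nat.mul_le_mul_right _ ((Nat.mul_le_mul_left _ h10).trans h9)
  have h18 : WW V H' R ⊔ Ee V A = ⊤ := by
    apply eq_of_le_as le_top
    rw [AddSubgroup.card_top]
    exact h17
  refine ⟨h18, ?_⟩
  have h19 : Nat.card ↥(WW V H' R) = Nat.card F * Nat.card ↥(WW V H' R ⊓ Ee V A) := by
    rw [h18, AddSubgroup.card_top, ← h16] at h12
    apply Nat.eq_of_mul_eq_mul_right h14
    rw [h12]
    ring
  rw [h19]
  exact Nat.mul_le_mul_left _ h10

/-- **`A ∩ Q` acts on `W'` as one root group** -/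
theorem d_supp' {A : Subgroup Y} (hA : A ∈ U) (hAH : A ≤ H) (hAM : ¬ A ≤ M) {I : Set (Fin k)}
    (hO : Opp V H R co A I) : ∃ j, Supp V H' R co' (A ⊓ QQ H R) {j} := by
  have hm := h.amb.cls.mem A hA
  have hW := h.d_not_le hc hA hAH hAM hO
  have hAQ := h.opp_not_Q hAM
  have h5 := card_Q h.K h.amb h.a h.we (fun B hB => (hc B hB).1) hA hAH hAQ
  obtain ⟨h7, h8, h9⟩ := h.d_noOver hA hW fun y hy hyE => h.d_fix hc hA hAH hAM hO hy hyE
  have hQR : A ⊓ QQ H R ≤ R := inf_le_right.trans QQ_le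
  have hf : 1 < Nat.card F := Finite.one_lt_card
  obtain ⟨J, ⟨j, hj⟩, hJ⟩ := h.K'.exists_supp_of h.two h.a'.RH hQR ((Mem.elAb hm).mono inf_le_left) (by
    intro h1
    have h2 : A ⊓ QQ H R ≤ A ⊓ QQ H R ⊓ QQ H' R := le_inf le_rfl h1
    rw [h7, le_bot_iff] at h2
    rw [h2, card_bot] at h5
    omega) (by
    rw [h7, card_bot, one_mul]
    exact (h.d_top hc hA hAH hAM hO).2)
  have h10 := hJ.card h.K' h.two h.a'.RH (Q_fix h.amb h.a') hQR
  rw [h7, card_bot, one_mul, h5, Nat.card_fun] at h10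
  have h11 : Nat.card J = 1 := by
    have h12 : Nat.card F ^ Nat.card J = Nat.card F ^ 1 := by rw [← h10, pow_one]
    exact Nat.pow_right_injective hf h12
  have h12 : J = {j} := by
    rw [Nat.card_eq_one_iff_unique] at h11
    obtain ⟨hsub, _⟩ := h11
    ext l
    constructor
    · intro hl
      exact congrArg Subtype.val (Subsingleton.elim (⟨l, hl⟩ : J) ⟨j, hj⟩)
    · rintro rfl
      exact hj
  rw [h12] at hJ
  exact ⟨j, hJ⟩

/-- all outputs of (d) for `A = B^g`, `B ≤ R` active, `g` opposite -/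
theorem d_out {B : Subgroup Y} (hB : B ∈ U) (hBR : B ≤ R) (hBQ : ¬ B ≤ QQ H R) {g : Y} (hg : g ∈ H)
    (hgA : Acts V H R co g fun _ => wm 1 one_ne_zero) :
    R ⊔ MulAut.conj g • B = H ∧ ∃ i j, Supp V H R co B {i} ∧ Opp V H R co (MulAut.conj g • B) {i} ∧
      Supp V H' R co' (MulAut.conj g • B ⊓ QQ H R) {j} ∧
      Nat.card ↥(MulAut.conj g • B) = Nat.card F ^ 2 ∧
      Nat.card ↥(MulAut.conj g • B ⊓ QQ H R) = Nat.card F ∧
      WW V H' R ⊔ Ee V (MulAut.conj g • B) = ⊤ ∧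
      (∀ v ∈ WW V H' R, v ∈ Ee V (MulAut.conj g • B) → v ∈ fx V (MulAut.conj g • B ⊓ QQ H R)) ∧
      ∀ s ∈ MulAut.conj g • B ⊓ QQ H R, ∀ w, w ∉ Ee V (MulAut.conj g • B) →
        ∃ x ∈ WW V H R, s • w + w + x ∈ fx V (MulAut.conj g • B) := by
  have hc1 : ∀ B ∈ U, Nat.card B = Nat.card F ^ 2 := fun B hB => (hc B hB).1
  obtain ⟨i, hS, _⟩ := supp_one h.K h.amb h.a h.we hc1 hB hBR hBQ
  have hBH := hBR.trans h.a.RH
  have hO := hS.opp hg hgA hBH
  have hA := h.amb.cls.conj B hB g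
  have hAH : MulAut.conj g • B ≤ H := by
    intro x hx
    rw [mem_conj] at hx
    have h1 := H.mul_mem (H.mul_mem hg (hBH hx)) (H.inv_mem hg)
    have e : g * (g⁻¹ * x * g) * g⁻¹ = x := by group
    rwa [e] at h1
  have hAM := hO.not_le h.K h.amb h.a hAH (Set.singleton_nonempty i)
  have hAQ := h.opp_not_Q hAM
  obtain ⟨j, hj⟩ := h.d_supp' hc hA hAH hAM hO
  exact ⟨hO.gen h.K h.amb h.a hAH (Set.singleton_nonempty i), i, j, hS, hO, hj, hc1 _ hA,
    card_Q h.K h.amb h.a h.we hc1 hA hAH hAQ, (h.d_top hc hA hAH hAM hO).1,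
    fun v hv hvE => h.d_fix hc hA hAH hAM hO hv hvE,
    fun s hs w hw => S_eq h.K h.amb h.a h.we hc1 hA hAH hAQ hw hs.1 hs.2⟩

end outputs

end TwoN

end Cfsg.Agent.Omega.NO1.TH.K

end

end
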